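import Groth.Agent.Sga2lef.H503.TwistIdeal
import Groth.Agent.Sga2.EszSec
import Groth.Agent.Pi1C.ZeroScheme
import Groth.Agent.Grpsch.PicGrp

/-!
# The comparison theorem `H^i(X, O) → lim H^i(X, O/𝓘^(m+1))` from the key lemma

* `ofSec1 θ s : Sec P 1` for `θ : L ⊗ P ≅ O_X` and `s : O_X ⟶ L`; `cuts_ofSec1`: it cuts out `PicF2.zeroScheme L s`;
* `main`: the statement S3380 from the key lemma on `s^b : H^i(X, F(-m-b)) → H^i(X, F(-m))`.
-/

set_option autoImplicit false
universe u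
open CategoryTheory CategoryTheory.Limits AlgebraicGeometry Opposite TopologicalSpace

namespace Groth.Agent.Sga2lef.H503.EndGame

open Groth.Agent.Sga2.TwIt Groth.Agent.Sga2.NegSec Groth.Agent.Sga2.EszSec
open Groth.Agent.Sga2lef.H503.ProZero Groth.Agent.Sga2lef.H503.TwistIdeal
open Groth.Agent.CohqB.HSeqMod
open Groth.Agent.Fdesc.LocGen (ores sec res_sec)

variable {X : Scheme.{u}} {L P : X.Modules}

/-- A section of `L` as a section of the inverse of `P`. -/
noncomputable def ofSec1 (θ : CohB1.tensorMod L P ≅ Coh.structureModule X) (s : Coh.structureModule X ⟶ L) :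
    Sec P 1 where
  c V p _ := pair θ (sec s V) p
  res_c V W h p _ := by
    have h1 := res_pair θ h (sec s V) p
    rw [res_sec] at h1
    exact h1
  c_smul V p _ r _ := by rw [pair_smul_right, pow_one]

theorem sec_eq (θ : CohB1.tensorMod L P ≅ Coh.structureModule X) (s : Coh.structureModule X ⟶ L) {V : X.Opens}
    {p : Γ(P, V)} (hp : Groth.Agent.Fdesc.LocGen.IsGen p) : sec s V = pair θ (sec s V) p • dual θ p hp := by
  refine (pair_bijective θ hp).1 ?_
  change pair θ (sec s V) p = pair θ (pair θ (sec s V) p • dual θ p hp) p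
  rw [pair_smul, pair_dual, mul_one]

theorem cuts_ofSec1 (hL : PicF.IsInvertible L) (θ : CohB1.tensorMod L P ≅ Coh.structureModule X)
    (s : Coh.structureModule X ⟶ L) : Cuts (ofSec1 θ s) (PicF2.zeroScheme L s) := by
  intro V p hp
  exact Groth.Agent.Pi1C.ZeroScheme.ideal_eq_span s hL V (isGen_dual θ (p := p) hp) (sec_eq θ s (p := p) hp)

/-- The key lemma, as a hypothesis on an ideal sheaf `𝓘`, and a section `σ`. -/
def Key (hP : PicF.IsInvertible P) (σ : Sec P 1) (𝓘 : X.IdealSheafData) (n : ℕ) : Prop :=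
  ∀ F : X.Modules, Coh.IsCoh F →
    (∀ x : X, IsClosed ({x} : Set X) → x ∉ (𝓘.support : Set X) →
      (n : ℕ∞) < LocCoh.depth (X.presheaf.stalk x) (F.presheaf.stalk x)) →
    ∃ b m₀ : ℕ, ∀ m, m₀ ≤ m → ∀ i ≤ n, ∀ x : Coh.HH X ((It P b).obj ((It P m).obj F)) i,
      hmap ((powS σ b).hom hP ((It P m).obj F)) i x = 0

theorem dim_closure_le (x : X) (hx : IsClosed ({x} : Set X)) :
    topologicalKrullDim ↥(closure ({x} : Set X)) ≤ 0 := by
  rw [hx.closure_eq]
  exact topologicalKrullDim_zero_of_discreteTopology _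

theorem isCoh_idealMod [IsNoetherian X] (J : X.IdealSheafData) : Coh.IsCoh (ClSub.idealMod J) :=
  ⟨Groth.Agent.CohqA.IdealMod.isQCoh_idealMod J, Groth.Agent.CohqA.IdealMod.isFT_idealMod J fun U => by
    have : IsNoetherianRing Γ(X, U.1) := IsLocallyNoetherian.component_noetherian U
    exact IsNoetherian.noetherian _⟩

/-- The comparison theorem from the key lemma. -/
theorem main [IsNoetherian X] (hP : PicF.IsInvertible P) (σ : Sec P 1) (𝓘 : X.IdealSheafData) (hσ : Cuts σ 𝓘) (n : ℕ)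
    (hkey : Key hP σ 𝓘 n)
    (hd : ∀ p : X, p ∉ (𝓘.support : Set X) → (n : WithBot ℕ∞) <
      (LocCoh.depth (X.presheaf.stalk p) (X.presheaf.stalk p) : WithBot ℕ∞) +
        topologicalKrullDim ↥(closure ({p} : Set X))) (i : ℕ) (hi : i < n) :
    (∀ x : Coh.HH X (Coh.structureModule X) i,
      (∀ m : ℕ, hmap (ClSub.toSubscheme (𝓘 ^ (m + 1))) i x = 0) → x = 0) ∧
    (∀ y : (∀ m : ℕ, Coh.HH X (ClSub.quotMod (𝓘 ^ (m + 1))) i),
      (∀ m : ℕ, hmap (Lef.quotMap (Lef.pow_succ_le 𝓘 m)) i (y (m + 1)) = y m) →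
      ∃ x : Coh.HH X (Coh.structureModule X) i,
        ∀ m : ℕ, hmap (ClSub.toSubscheme (𝓘 ^ (m + 1))) i x = y m) := by
  refine of_proZero 𝓘 n (proZero_of_twist hP hσ n fun c => ?_) i hi
  refine hkey _ (isCoh_idealMod _) fun x hx hxs => ?_
  rw [depth_idealMod_pow 𝓘 c x hxs]
  have h1 := (hd x hxs).trans_le (add_le_add_right (dim_closure_le x hx) _)
  rw [add_zero] at h1
  exact_mod_cast h1

/-- S3380 from the key lemma. -/
theorem result_of_key (k : Type u) [Field k] (X : Scheme.{u}) (f : X ⟶ Spec (CommRingCat.of k)) [IsProper f]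
    (L : X.Modules) (hL : CohB1.IsAmple L) (s : Coh.structureModule X ⟶ L) (n : ℕ)
    (hkey : ∀ (P : X.Modules) (hP : PicF.IsInvertible P) (θ : CohB1.tensorMod L P ≅ Coh.structureModule X),
      Key hP (ofSec1 θ s) (PicF2.zeroScheme L s) n)
    (hd : ∀ p : X, p ∉ ((PicF2.zeroScheme L s).support : Set X) → (n : WithBot ℕ∞) <
      (LocCoh.depth (X.presheaf.stalk p) (X.presheaf.stalk p) : WithBot ℕ∞) +
        topologicalKrullDim ↥(closure ({p} : Set X))) (i : ℕ) (hi : i < n) :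
    (∀ x : Coh.HH X (Coh.structureModule X) i, (∀ m : ℕ, Sheaf.H.map ((SheafOfModules.toSheaf X.ringCatSheaf).map
      (ClSub.toSubscheme ((PicF2.zeroScheme L s) ^ (m + 1)))) i x = 0) → x = 0) ∧
    (∀ y : (∀ m : ℕ, Coh.HH X (ClSub.quotMod ((PicF2.zeroScheme L s) ^ (m + 1))) i),
      (∀ m : ℕ, Sheaf.H.map ((SheafOfModules.toSheaf X.ringCatSheaf).map
        (Lef.quotMap (Lef.pow_succ_le (PicF2.zeroScheme L s) m))) i (y (m + 1)) = y m) →
      ∃ x : Coh.HH X (Coh.structureModule X) i, ∀ m : ℕ, Sheaf.H.map ((SheafOfModules.toSheaf X.ringCatSheaf).map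
        (ClSub.toSubscheme ((PicF2.zeroScheme L s) ^ (m + 1)))) i x = y m) := by
  have : IsLocallyNoetherian X := LocallyOfFiniteType.isLocallyNoetherian f
  have : CompactSpace X := (quasiCompact_iff_compactSpace f).mp inferInstance
  have : IsNoetherian X := {}
  obtain ⟨P, hP, ⟨θ⟩⟩ := Groth.Agent.Grpsch.PicGrp.exists_inverse hL.1
  exact main hP (ofSec1 θ s) (PicF2.zeroScheme L s) (cuts_ofSec1 hL.1 θ s) n (hkey P hP θ) hd i hi

end Groth.Agent.Sga2lef.H503.EndGame
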