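import Groth.Agent.Sga2lef.H503.ItCalc
import Groth.Agent.CohqB.HomSheafQCoh
import Groth.Agent.Fdesc.QCohStalk

/-!
# Extension of homomorphisms from `X_σ`, and homomorphisms vanishing on `X_σ`

`σ : Sec P 1`, `U = X_σ` (`IsLocus σ U`), `X` quasi-compact.

* `exists_pow_hom_comp_eq_zero`: `φ : A ⟶ B` zero on `U` is killed by `σ^e` (`A` of finite type, `B` quasi-coherent);
* `exists_ext`: a homomorphism `K|_U → E|_U` times `σ^b` extends to `(It P b).obj K ⟶ E` if `E` has no `σ`-torsion;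
* `exists_factor`: if `g : E ⟶ K` has a section over `U` then `σ^b : (It P b).obj K ⟶ K` factors through `g`.
-/

set_option autoImplicit false
universe u
open CategoryTheory CategoryTheory.Limits AlgebraicGeometry Opposite TopologicalSpace

namespace Groth.Agent.Sga2lef.H503.HomExt

open Groth.Agent.Ega4dA.GenSec (res resO IsGen res_self res_res res_smul res_add res_sub res_zero app_res eq_of_locally
  exists_glue isInvertible_iff resO_resO resO_mul resO_zero eqO_of_locally)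
open Groth.Agent.Sga2.TwIt Groth.Agent.Sga2.NegSec
open Groth.Agent.Sga2lef.H503.TwistIdeal Groth.Agent.Sga2lef.H503.ItCalc
open Groth.Agent.CohqB.HomSheaf (homSheaf comp)

variable {X : Scheme.{u}} {P : X.Modules}

/-- `U` is the locus where `σ` does not vanish. -/
def IsLocus (σ : Sec P 1) (U : X.Opens) : Prop :=
  ∀ (V : X.Opens) (p : Γ(P, V)) (hp : IsGen P V p), V ⊓ U = X.basicOpen (σ.c V p hp)

/-- A finite family of affine opens with generators, covering `X`, in a form convenient for localization. -/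
theorem exists_cover [CompactSpace X] (hP : PicF.IsInvertible P) :
    ∃ (ι : Type) (_ : Finite ι) (W : ι → X.affineOpens) (p : ∀ i, Γ(P, (W i).1)) (_ : ∀ i, IsGen P _ (p i)),
      ∀ (V : X.Opens) (y : X), y ∈ V → ∃ (i : ι) (f : Γ(X, (W i).1)), y ∈ X.basicOpen f ∧ X.basicOpen f ≤ V := by
  classical
  choose W hW hxW p hp using fun x : X => exists_affine_gen hP ⊤ x trivial
  obtain ⟨t, ht⟩ := isCompact_univ.elim_finite_subcover (fun x : X => ((W x).1 : Set X)) (fun x => (W x).1.2)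
    (fun x _ => Set.mem_iUnion.mpr ⟨x, hxW x⟩)
  refine ⟨Fin t.card, inferInstance, fun i => W (t.equivFin.symm i).1, fun i => p _, fun i => hp _, fun V y hy => ?_⟩
  obtain ⟨x, hxt, hyx⟩ : ∃ x ∈ t, y ∈ (W x).1 := by
    simpa using ht (Set.mem_univ y)
  have h1 : ∃ f : Γ(X, (W x).1), y ∈ X.basicOpen f ∧ X.basicOpen f ≤ V := by
    obtain ⟨f, hfV, hyf⟩ := (W x).2.exists_basicOpen_le (V := V) ⟨y, hy⟩ hyx
    exact ⟨f, hyf, hfV⟩
  have h2 : (t.equivFin.symm (t.equivFin ⟨x, hxt⟩)).1 = x := by simp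
  refine ⟨t.equivFin ⟨x, hxt⟩, ?_⟩
  change (fun x' : X => ∃ f : Γ(X, (W x').1), y ∈ X.basicOpen f ∧ X.basicOpen f ≤ V)
    (t.equivFin.symm (t.equivFin ⟨x, hxt⟩)).1
  rw [h2]
  exact h1

theorem exists_res_eq {M : X.Modules} (hM : Coh.IsQCoh M) {W : X.Opens} (hW : IsAffineOpen W) (c : Γ(X, W))
    {V : X.Opens} (hV : V = X.basicOpen c) (h : V ≤ W) (t : Γ(M, V)) :
    ∃ (n : ℕ) (y : Γ(M, W)), res M h y = resO X h c ^ n • t := by
  subst hV
  exact Groth.Agent.Fdesc.QCohStalk.exists_map_eq_pow_smul M hW hM c t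

theorem exists_pow_smul_eq_zero {M : X.Modules} (hM : Coh.IsQCoh M) {W : X.Opens} (hW : IsAffineOpen W) (c : Γ(X, W))
    {V : X.Opens} (hV : V = X.basicOpen c) (h : V ≤ W) (y : Γ(M, W)) (hy : res M h y = 0) :
    ∃ n : ℕ, c ^ n • y = 0 := by
  subst hV
  exact Groth.Agent.Fdesc.QCohStalk.exists_pow_smul_eq_zero M hW hM c y hy

theorem isUnit_resO {W : X.Opens} (f : Γ(X, W)) : IsUnit (resO X (X.basicOpen_le f) f) :=
  RingedSpace.isUnit_res_basicOpen _ f

theorem finite_sections {A : X.Modules} (hA : Coh.IsCoh A) {W : X.Opens} (hW : IsAffineOpen W) :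
    Module.Finite Γ(X, W) Γ(A, W) := by
  have := hA.1
  exact (Groth.Agent.CohqB.FiniteType2.isFT_iff_finite_sections A).mp hA.2 W hW

section Vanish

variable (hP : PicF.IsInvertible P) {σ : Sec P 1} {U : X.Opens}

/-- A morphism vanishing on `X_σ` is killed by a power of `σ`. -/
theorem exists_pow_hom_comp_eq_zero [CompactSpace X] (hU : IsLocus σ U) {A B : X.Modules} (hA : Coh.IsCoh A)
    (hB : Coh.IsQCoh B) (φ : A ⟶ B) (h0 : ∀ (V : X.Opens) (_ : V ≤ U) (a : Γ(A, V)), φ.app V a = 0) :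
    ∃ e : ℕ, (powS σ e).hom hP A ≫ φ = 0 := by
  classical
  obtain ⟨ι, hι, W, p, hp, hcov⟩ := exists_cover hP
  -- over the members of the cover
  have h1 : ∀ i, ∃ e : ℕ, ∀ a : Γ(A, (W i).1), σ.c _ (p i) (hp i) ^ e • φ.app _ a = 0 := by
    intro i
    have hfin := finite_sections hA (W i).2
    have h2 : ∀ a : Γ(A, (W i).1), ∃ e : ℕ, σ.c _ (p i) (hp i) ^ e • φ.app _ a = 0 := fun a =>
      exists_pow_smul_eq_zero hB (W i).2 _ (hU _ (p i) (hp i)) inf_le_left _ (by
        rw [← app_res]; exact h0 _ inf_le_right _)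
    choose e he using h2
    obtain ⟨S, hS⟩ := hfin.fg_top
    refine ⟨S.sup e, fun a => ?_⟩
    have ha : a ∈ Submodule.span Γ(X, (W i).1) (S : Set Γ(A, (W i).1)) := by rw [hS]; trivial
    induction ha using Submodule.span_induction with
    | mem x hx =>
      obtain ⟨d, hd⟩ := Nat.exists_eq_add_of_le (Finset.le_sup (f := e) hx)
      rw [hd, add_comm, pow_add, mul_smul, he, smul_zero]
    | zero => rw [map_zero, smul_zero]
    | add x y _ _ hx hy => rw [map_add, smul_add, hx, hy, add_zero]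
    | smul r x _ hx => rw [Scheme.Modules.Hom.app_smul, smul_comm, hx, smul_zero]
  choose e he using h1
  obtain ⟨N, hN⟩ := (Set.finite_range e).bddAbove
  refine ⟨N, It_hom_ext hP fun V q hq x => ?_⟩
  change φ.app V (((powS σ N).hom hP A).app V (ev A q N x)) = 0
  rw [Sec.hom_ev _ hP _ hq, powS_c, Scheme.Modules.Hom.app_smul]
  refine eq_of_locally _ fun y hy => ?_
  obtain ⟨i, f, hyf, hfV⟩ := hcov V y hy
  refine ⟨X.basicOpen f, hfV, hyf, ?_⟩
  have hfW : X.basicOpen f ≤ (W i).1 := X.basicOpen_le f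
  rw [res_smul, res_zero, resO_pow, σ.res_c, ← app_res]
  -- compare the generators
  obtain ⟨r, hr⟩ := ((hp i).mono hfW).exists_unit (hq.mono hfV)
  have hc1 : σ.c _ (res P hfV q) (hq.mono hfV) = r.1 * resO X hfW (σ.c _ (p i) (hp i)) := by
    have h1 := σ.c_smul _ (res P hfW (p i)) ((hp i).mono hfW) r.1 r.isUnit
    rw [pow_one, ← σ.res_c _ _ hfW (p i) (hp i)] at h1
    rw [← h1]
    exact σ.c_congr hr.symm _ _
  obtain ⟨n, a, ha⟩ := exists_res_eq hA.1 (W i).2 f rfl hfW (res A hfV x)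
  have h3 : resO X hfW f ^ n • (resO X hfW (σ.c _ (p i) (hp i)) ^ N • φ.app _ (res A hfV x)) = 0 := by
    rw [smul_comm, ← Scheme.Modules.Hom.app_smul, ← ha, app_res, ← resO_pow, ← res_smul]
    obtain ⟨d, hd⟩ := Nat.exists_eq_add_of_le (hN ⟨i, rfl⟩)
    rw [hd, add_comm, pow_add, mul_smul, he, smul_zero, res_zero]
  have h4 : resO X hfW (σ.c _ (p i) (hp i)) ^ N • φ.app _ (res A hfV x) = 0 :=
    ((isUnit_resO f).pow n).smul_left_cancel.mp (h3.trans (smul_zero _).symm)
  rw [hc1, mul_pow, mul_smul, h4, smul_zero]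

end Vanish

section Ext

variable (hP : PicF.IsInvertible P) {σ : Sec P 1} {U : X.Opens} (hU : IsLocus σ U) {K E : X.Modules}
  (t : Γ(homSheaf K E, U))

theorem comp_res' {V W : X.Opens} (hV : V ≤ U) (h : W ≤ V) (m : Γ(K, V)) :
    comp t W (h.trans hV) (res K h m) = res E h (comp t V hV m) :=
  Groth.Agent.CohqB.HomSheaf.comp_map t hV h m

/-- `c(p)^b t` extends to `V`. -/
def ExtProp (b : ℕ) (V : X.Opens) (p : Γ(P, V)) (hp : IsGen P V p) : Prop :=
  ∀ a : Γ(K, V), ∃ y : Γ(E, V), res E (inf_le_left : V ⊓ U ≤ V) y =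
    resO X (inf_le_left : V ⊓ U ≤ V) (σ.c V p hp) ^ b • comp t (V ⊓ U) inf_le_right (res K inf_le_left a)

include hU in
theorem exists_extProp (hK : Coh.IsCoh K) (hE : Coh.IsQCoh E) {W : X.Opens} (hW : IsAffineOpen W) (p : Γ(P, W))
    (hp : IsGen P W p) : ∃ b₀ : ℕ, ∀ b, b₀ ≤ b → ExtProp (σ := σ) t b W p hp := by
  classical
  have hfin := finite_sections hK hW
  have h2 : ∀ a : Γ(K, W), ∃ (b : ℕ) (y : Γ(E, W)), res E (inf_le_left : W ⊓ U ≤ W) y =
      resO X (inf_le_left : W ⊓ U ≤ W) (σ.c W p hp) ^ b • comp t (W ⊓ U) inf_le_right (res K inf_le_left a) := fun a =>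
    exists_res_eq hE hW _ (hU _ p hp) inf_le_left _
  choose e y he using h2
  obtain ⟨S, hS⟩ := hfin.fg_top
  refine ⟨S.sup e, fun b hb a => ?_⟩
  have ha : a ∈ Submodule.span Γ(X, W) (S : Set Γ(K, W)) := by rw [hS]; trivial
  induction ha using Submodule.span_induction with
  | mem x hx =>
    obtain ⟨d, hd⟩ := Nat.exists_eq_add_of_le ((Finset.le_sup (f := e) hx).trans hb)
    refine ⟨σ.c W p hp ^ d • y x, ?_⟩
    rw [res_smul, he, hd, resO_pow, ← mul_smul, ← pow_add, add_comm]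
  | zero => exact ⟨0, by rw [res_zero, res_zero, map_zero, smul_zero]⟩
  | add x x' _ _ hx hx' =>
    obtain ⟨z, hz⟩ := hx
    obtain ⟨z', hz'⟩ := hx'
    exact ⟨z + z', by rw [res_add, res_add, map_add, smul_add, hz, hz']⟩
  | smul r x _ hx =>
    obtain ⟨z, hz⟩ := hx
    exact ⟨r • z, by rw [res_smul, res_smul, _root_.map_smul, hz, smul_comm]⟩

theorem ExtProp.basicOpen (hK : Coh.IsCoh K) {b : ℕ} {W : X.Opens} (hW : IsAffineOpen W) {p : Γ(P, W)}
    {hp : IsGen P W p} (h : ExtProp (σ := σ) t b W p hp) (f : Γ(X, W)) :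
    ExtProp (σ := σ) t b (X.basicOpen f) (res P (X.basicOpen_le f) p) (hp.mono (X.basicOpen_le f)) := by
  intro a
  have hfW : X.basicOpen f ≤ W := X.basicOpen_le f
  obtain ⟨n, a', ha'⟩ := exists_res_eq hK.1 hW f rfl hfW a
  obtain ⟨y, hy⟩ := h a'
  obtain ⟨v, hv⟩ := (isUnit_resO f).pow n
  refine ⟨(↑v⁻¹ : Γ(X, X.basicOpen f)) • res E hfW y, ?_⟩
  have hle : X.basicOpen f ⊓ U ≤ W ⊓ U := inf_le_inf_right _ hfW
  have h1 := congrArg (res E hle) hy
  rw [res_res, res_smul, resO_pow, resO_resO, ← comp_res', res_res] at h1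
  rw [res_smul, res_res, h1, ← σ.res_c, resO_resO]
  have h2 : res K (hle.trans inf_le_left) a' = resO X (inf_le_left : X.basicOpen f ⊓ U ≤ _) v.1 •
      res K inf_le_left a := by
    rw [← res_smul, hv, ← ha', res_res]
  have h3 : comp t (X.basicOpen f ⊓ U) inf_le_right (res K (hle.trans inf_le_left) a') =
      resO X (inf_le_left : X.basicOpen f ⊓ U ≤ _) v.1 • comp t (X.basicOpen f ⊓ U) inf_le_right
        (res K inf_le_left a) := by
    rw [h2, _root_.map_smul]
  rw [h3, smul_comm _ (resO X _ v.1), ← mul_smul, ← resO_mul, Units.inv_mul]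
  have h4 : resO X (inf_le_left : X.basicOpen f ⊓ U ≤ _) (1 : Γ(X, X.basicOpen f)) = 1 :=
    map_one (X.presheaf.map (homOfLE _).op).hom
  rw [h4, one_smul]

/-- no `σ`-torsion -/
def TF (σ : Sec P 1) (E : X.Modules) : Prop :=
  ∀ (V : X.Opens) (p : Γ(P, V)) (hp : IsGen P V p) (y : Γ(E, V)), σ.c V p hp • y = 0 → y = 0

theorem TF.pow (h : TF σ E) {V : X.Opens} {p : Γ(P, V)} (hp : IsGen P V p) (n : ℕ) (y : Γ(E, V))
    (hy : σ.c V p hp ^ n • y = 0) : y = 0 := by
  induction n with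
  | zero => rwa [pow_zero, one_smul] at hy
  | succ n ih =>
    refine ih (h V p hp _ ?_)
    rwa [← mul_smul, ← pow_succ']

include hP hU in
/-- sections without torsion are determined on `X_σ` -/
theorem TF.ext (hE : Coh.IsQCoh E) (h : TF σ E) {V : X.Opens} (y y' : Γ(E, V))
    (hy : res E (inf_le_left : V ⊓ U ≤ V) y = res E inf_le_left y') : y = y' := by
  rw [← sub_eq_zero]
  refine eq_of_locally _ fun x hx => ?_
  obtain ⟨W, hWV, hxW, p, hp⟩ := exists_affine_gen hP V x hx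
  refine ⟨W.1, hWV, hxW, ?_⟩
  rw [res_zero]
  obtain ⟨n, hn⟩ := exists_pow_smul_eq_zero hE W.2 _ (hU _ p hp) inf_le_left (res E hWV (y - y')) (by
    have hle : W.1 ⊓ U ≤ V ⊓ U := inf_le_inf_right _ hWV
    have h1 := congrArg (res E hle) hy
    rw [res_res, res_res] at h1
    rw [res_res, res_sub, h1, sub_self])
  exact h.pow hp n _ hn

include hP hU in
/-- **Extension of homomorphisms.** -/
theorem exists_ext [CompactSpace X] (hK : Coh.IsCoh K) (hE : Coh.IsQCoh E) (hTF : TF σ E) :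
    ∃ (b : ℕ) (ψ : (It P b).obj K ⟶ E), ∀ (V : X.Opens) (p : Γ(P, V)) (hp : IsGen P V p) (a : Γ(K, V)),
      res E (inf_le_left : V ⊓ U ≤ V) (ψ.app V (ev K p b a)) =
        resO X (inf_le_left : V ⊓ U ≤ V) (σ.c V p hp) ^ b • comp t (V ⊓ U) inf_le_right (res K inf_le_left a) := by
  classical
  obtain ⟨ι, hι, W, p, hp, hcov⟩ := exists_cover hP
  choose b₀ hb₀ using fun i => exists_extProp (σ := σ) hU t hK hE (W i).2 (p i) (hp i)
  obtain ⟨b, hb⟩ := (Set.finite_range b₀).bddAbove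
  have hb' : ∀ i (f : Γ(X, (W i).1)), ExtProp (σ := σ) t b (X.basicOpen f) (res P (X.basicOpen_le f) (p i))
      ((hp i).mono (X.basicOpen_le f)) := fun i f => (hb₀ i b (hb ⟨i, rfl⟩)).basicOpen t hK (W i).2 f
  let R : ∀ U' : X.Opens, Γ((It P b).obj K, U') → Γ(E, U') → Prop := fun U' z y =>
    ∀ (V : X.Opens) (h : V ≤ U') (q : Γ(P, V)) (hq : IsGen P V q) (a : Γ(K, V)),
      ev K q b a = res ((It P b).obj K) h z →
        res E ((inf_le_left : V ⊓ U ≤ V).trans h) y =
          resO X (inf_le_left : V ⊓ U ≤ V) (σ.c V q hq) ^ b • comp t (V ⊓ U) inf_le_right (res K inf_le_left a)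
  suffices hex : ∃ ψ : (It P b).obj K ⟶ E, ∀ (U' : X.Opens) (z : Γ((It P b).obj K, U')), R U' z (ψ.app U' z) by
    obtain ⟨ψ, hψ⟩ := hex
    refine ⟨b, ψ, fun V q hq a => ?_⟩
    exact hψ V (ev K q b a) V le_rfl q hq a (by rw [res_self])
  refine Groth.Agent.Sga2.LocHom.exists_hom R ?_ ?_ ?_ ?_ ?_ ?_
  · intro U' V h z y hR V' hV' q hq a ha
    rw [res_res] at ha ⊢
    exact hR V' (hV'.trans h) q hq a ha
  · intro U' z y y' hR hR'
    refine eq_of_locally _ fun x hx => ?_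
    obtain ⟨V, hV, hxV, q, hq⟩ := exists_gen hP U' x hx
    obtain ⟨a, ha⟩ := (ev_bijective K hq b).2 (res _ hV z)
    refine ⟨V, hV, hxV, ?_⟩
    refine TF.ext hP hU hE hTF _ _ ?_
    rw [res_res, res_res, hR V hV q hq a ha, hR' V hV q hq a ha]
  · intro U' z x hx
    obtain ⟨i, f, hxf, hfU⟩ := hcov U' x hx
    have hg := (hp i).mono (X.basicOpen_le f)
    obtain ⟨a, ha⟩ := (ev_bijective K hg b).2 (res _ hfU z)
    obtain ⟨y, hy⟩ := hb' i f a
    refine ⟨X.basicOpen f, hfU, hxf, y, fun V hV q hq a' ha' => ?_⟩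
    obtain ⟨r, hr⟩ := (hg.mono hV).exists_unit hq
    have h1 : ev K q b a' = r.1 ^ b • ev K (res P hV (res P (X.basicOpen_le f) (p i))) b a' := by
      rw [← hr, ev_smul_gen]
    rw [← ha, res_ev, h1, ← ev_smul] at ha'
    have h2 := (ev_bijective K (hg.mono hV) b).1 ha'
    have hle : V ⊓ U ≤ X.basicOpen f ⊓ U := inf_le_inf_right _ hV
    have h3 := congrArg (res E hle) hy
    rw [res_res, res_smul, resO_pow, resO_resO, ← comp_res', res_res] at h3
    rw [h3]
    have hc1 : σ.c V q hq = r.1 * resO X hV (σ.c _ (res P (X.basicOpen_le f) (p i)) hg) := by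
      have h1 := σ.c_smul _ (res P hV (res P (X.basicOpen_le f) (p i))) (hg.mono hV) r.1 r.isUnit
      rw [pow_one, ← σ.res_c _ _ hV _ hg] at h1
      rw [← h1]
      exact σ.c_congr hr.symm _ _
    have h4 : res K (hle.trans inf_le_left) a =
        resO X (inf_le_left : V ⊓ U ≤ V) (r.1 ^ b) • res K (inf_le_left : V ⊓ U ≤ V) a' := by
      rw [← res_smul, h2, res_res]
    have h5 : comp t (V ⊓ U) inf_le_right (res K (hle.trans inf_le_left) a) =
        resO X (inf_le_left : V ⊓ U ≤ V) (r.1 ^ b) • comp t (V ⊓ U) inf_le_right (res K inf_le_left a') := by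
      rw [h4, _root_.map_smul]
    rw [h5, hc1, resO_mul, resO_resO, mul_pow, ← mul_smul, resO_pow, mul_comm]
  · intro U' z y hloc V hV q hq a ha
    refine eq_of_locally _ fun x hx => ?_
    obtain ⟨V', hV', hxV', hR⟩ := hloc x (hV hx.1)
    refine ⟨(V ⊓ V') ⊓ U, inf_le_inf_right _ inf_le_left, ⟨⟨hx.1, hxV'⟩, hx.2⟩, ?_⟩
    have h1 := hR (V ⊓ V') inf_le_right (res P inf_le_left q) (hq.mono _) (res K inf_le_left a) (by
      rw [← res_ev, ha, res_res, res_res])
    rw [res_res] at h1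
    rw [res_res, res_smul, resO_pow, resO_resO, ← comp_res', res_res, h1, ← σ.res_c, resO_resO, res_res]
  · intro U' z z' y y' hR hR' V hV q hq a ha
    obtain ⟨m, hm⟩ := (ev_bijective K hq b).2 (res _ hV z)
    obtain ⟨m', hm'⟩ := (ev_bijective K hq b).2 (res _ hV z')
    have h1 : a = m + m' := (ev_bijective K hq b).1 (by rw [ha, ev_add, hm, hm', res_add])
    rw [res_add, hR V hV q hq m hm, hR' V hV q hq m' hm', h1, res_add, map_add, smul_add]
  · intro U' r z y hR V hV q hq a ha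
    obtain ⟨m, hm⟩ := (ev_bijective K hq b).2 (res _ hV z)
    have h1 : a = resO X hV r • m := (ev_bijective K hq b).1 (by rw [ha, ev_smul, hm, res_smul])
    rw [res_smul, hR V hV q hq m hm, h1, res_smul, _root_.map_smul, resO_resO, smul_comm]

include hP hU in
/-- If `g : E ⟶ K` has a section over `X_σ` then `σ^b : K(-b) ⟶ K` factors through `g`. -/
theorem exists_factor [IsLocallyNoetherian X] [CompactSpace X] (hK : Coh.IsCoh K) (hE : Coh.IsQCoh E) (hTF : TF σ E)
    (g : E ⟶ K) (hg : ∀ (V : X.Opens) (hV : V ≤ U) (a : Γ(K, V)), g.app V (comp t V hV a) = a) :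
    ∃ (b : ℕ) (ψ : (It P b).obj K ⟶ E), ψ ≫ g = (powS σ b).hom hP K := by
  obtain ⟨b, ψ, hψ⟩ := exists_ext hP hU t hK hE hTF
  obtain ⟨e, he⟩ := exists_pow_hom_comp_eq_zero hP hU
    (Groth.Agent.Sga2.StalkTw.isCoh_It hP hK b) hK.1 (ψ ≫ g - (powS σ b).hom hP K) (by
      intro V hV z
      refine eq_of_locally _ fun x hx => ?_
      obtain ⟨W, hW, hxW, q, hq⟩ := exists_gen hP V x hx
      refine ⟨W, hW, hxW, ?_⟩
      obtain ⟨a, ha⟩ := (ev_bijective K hq b).2 (res _ hW z)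
      rw [← app_res, ← ha, res_zero]
      change g.app W (ψ.app W (ev K q b a)) - ((powS σ b).hom hP K).app W (ev K q b a) = 0
      rw [Sec.hom_ev _ hP _ hq, powS_c]
      -- restrict to `W ⊓ U = W`
      have hWU : W ≤ W ⊓ U := le_inf le_rfl (hW.trans hV)
      have h1 := congrArg (fun y => g.app W (res E hWU y)) (hψ W q hq a)
      simp only [res_res, res_self, res_smul, resO_pow, resO_resO] at h1
      rw [← comp_res' t inf_le_right hWU, res_res, Scheme.Modules.Hom.app_smul, hg] at h1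
      have h2 : resO X (hWU.trans inf_le_left) (σ.c W q hq) = σ.c W q hq :=
        Groth.Agent.Ega4dA.GenSec.resO_self _ _
      rw [h1, res_self, h2, sub_self])
  refine ⟨b + e, kap P b e K ≫ (powS σ e).hom hP ((It P b).obj K) ≫ ψ, ?_⟩
  rw [powS_add, Category.assoc, Category.assoc]
  congr 1
  rw [Preadditive.comp_sub, sub_eq_zero] at he
  exact he

end Ext

end Groth.Agent.Sga2lef.H503.HomExt
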