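import Groth.Agent.Sga2lef.H503.TwistIdeal

/-!
# Calculus of the iterated twists `It P m` and nilpotence of a section on cohomology

* `kap : (It P (m + a)).obj M ≅ (It P a).obj ((It P m).obj M)`, `swap : (It P b) (It P m) M ≅ (It P m) (It P b) M`;
* `Kill σ b M i`: `σ^b : H^i(M(-b)) → H^i(M)` is zero; `Nil σ F i`: `∃ b m₀, ∀ m ≥ m₀, Kill σ b (F(-m)) i`;
* stability of `Nil` in short exact sequences, under factorization of `σ^b : K(-b) → K` through `E`, and for modules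
  killed by `σ^b`.
-/

set_option autoImplicit false
universe u
open CategoryTheory CategoryTheory.Limits AlgebraicGeometry Opposite TopologicalSpace

namespace Groth.Agent.Sga2lef.H503.ItCalc

open Groth.Agent.Ega4dA.GenSec (res resO IsGen res_self res_res res_smul res_add res_zero app_res eq_of_locally
  exists_glue isInvertible_iff resO_resO resO_mul resO_zero eqO_of_locally)
open Groth.Agent.Sga2.TwIt Groth.Agent.Sga2.NegSec
open Groth.Agent.CohqB.HSeqMod Groth.Agent.Sga2lef.H503.TwistIdeal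

variable {X : Scheme.{u}} {P : X.Modules}

section Deg

/-- `(It P (m + a)).obj M ⟶ (It P a).obj ((It P m).obj M)`. -/
noncomputable def kap (P : X.Modules) (m a : ℕ) (M : X.Modules) :
    (It P (m + a)).obj M ⟶ (It P a).obj ((It P m).obj M) := eqToHom (It_add_obj P m a M)

instance (m a : ℕ) (M : X.Modules) : IsIso (kap P m a M) := by unfold kap; infer_instance

theorem kap_succ (m a : ℕ) (M : X.Modules) : kap P m (a + 1) M = (Tw P).map (kap P m a M) := by
  unfold kap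
  rw [eqToHom_map]
  rfl

theorem kap_ev (m a : ℕ) (M : X.Modules) {V : X.Opens} (p : Γ(P, V)) (x : Γ(M, V)) :
    (kap P m a M).app V (ev M p (m + a) x) = ev ((It P m).obj M) p a (ev M p m x) := by
  induction a with
  | zero => rfl
  | succ a ih =>
    rw [kap_succ]
    change ((Tw P).map (kap P m a M)).app V (tw P ((It P (m + a)).obj M) p (ev M p (m + a) x)) = _
    rw [map_tw, ih]
    rfl

/-- equality of degrees -/
noncomputable def deg (P : X.Modules) {m a : ℕ} (h : m = a) (M : X.Modules) : (It P m).obj M ⟶ (It P a).obj M :=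
  eqToHom (by rw [h])

instance {m a : ℕ} (h : m = a) (M : X.Modules) : IsIso (deg P h M) := by unfold deg; infer_instance

theorem deg_ev {m a : ℕ} (h : m = a) (M : X.Modules) {V : X.Opens} (p : Γ(P, V)) (x : Γ(M, V)) :
    (deg P h M).app V (ev M p m x) = ev M p a x := by
  subst h
  rfl

theorem inv_kap_ev (m a : ℕ) (M : X.Modules) {V : X.Opens} (p : Γ(P, V)) (x : Γ(M, V)) :
    (inv (kap P m a M)).app V (ev ((It P m).obj M) p a (ev M p m x)) = ev M p (m + a) x := by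
  rw [← kap_ev]
  change (kap P m a M ≫ inv (kap P m a M)).app V _ = _
  rw [IsIso.hom_inv_id]
  rfl

/-- `(It P b) (It P m) M ⟶ (It P m) (It P b) M`. -/
noncomputable def swap (P : X.Modules) (m b : ℕ) (M : X.Modules) :
    (It P b).obj ((It P m).obj M) ⟶ (It P m).obj ((It P b).obj M) :=
  inv (kap P m b M) ≫ deg P (Nat.add_comm m b) M ≫ kap P b m M

instance (m b : ℕ) (M : X.Modules) : IsIso (swap P m b M) := by unfold swap; infer_instance

theorem swap_ev (m b : ℕ) (M : X.Modules) {V : X.Opens} (p : Γ(P, V)) (x : Γ(M, V)) :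
    (swap P m b M).app V (ev ((It P m).obj M) p b (ev M p m x)) = ev ((It P b).obj M) p m (ev M p b x) := by
  change (kap P b m M).app V ((deg P (Nat.add_comm m b) M).app V ((inv (kap P m b M)).app V _)) = _
  rw [inv_kap_ev, deg_ev, kap_ev]

end Deg

variable (hP : PicF.IsInvertible P)

/-- The twist of `s` is `s` on the twist, up to `swap`. -/
theorem hom_It {b : ℕ} (s : Sec P b) (m : ℕ) (M : X.Modules) :
    s.hom hP ((It P m).obj M) = swap P m b M ≫ (It P m).map (s.hom hP M) := by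
  refine It_hom_ext hP fun V p hp z => ?_
  obtain ⟨x, rfl⟩ := (ev_bijective M hp m).2 z
  change _ = ((It P m).map (s.hom hP M)).app V ((swap P m b M).app V (ev ((It P m).obj M) p b (ev M p m x)))
  rw [Sec.hom_ev s hP _ hp, swap_ev, map_ev, Sec.hom_ev s hP _ hp, ev_smul]

theorem powS_add (σ : Sec P 1) (b d : ℕ) (M : X.Modules) :
    (powS σ (b + d)).hom hP M = kap P b d M ≫ (powS σ d).hom hP ((It P b).obj M) ≫ (powS σ b).hom hP M := by
  refine It_hom_ext hP fun V p hp x => ?_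
  change _ = ((powS σ b).hom hP M).app V (((powS σ d).hom hP ((It P b).obj M)).app V ((kap P b d M).app V
    (ev M p (b + d) x)))
  rw [kap_ev, Sec.hom_ev _ hP _ hp, Sec.hom_ev _ hP _ hp, Scheme.Modules.Hom.app_smul, Sec.hom_ev _ hP _ hp, powS_c,
    powS_c, powS_c, ← mul_smul, pow_add, mul_comm]

/-- `σ^b : H^i(M(-b)) → H^i(M)` is zero. -/
def Kill (σ : Sec P 1) (b : ℕ) (M : X.Modules) (i : ℕ) : Prop :=
  ∀ x : Coh.HH X ((It P b).obj M) i, hmap ((powS σ b).hom hP M) i x = 0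

variable {hP} {σ : Sec P 1}

theorem Kill.of_iso {b : ℕ} {M N : X.Modules} (e : M ⟶ N) [IsIso e] {i : ℕ} (h : Kill hP σ b M i) :
    Kill hP σ b N i := by
  intro x
  have h1 : x = hmap ((It P b).map e) i (hmap ((It P b).map (inv e)) i x) := by
    rw [← hmap_comp_apply, ← Functor.map_comp, IsIso.inv_hom_id, CategoryTheory.Functor.map_id]
    exact (hmap_id_apply i x).symm
  rw [h1, ← hmap_comp_apply, Sec.hom_naturality, hmap_comp_apply, h, map_zero]

theorem Kill.mono {b : ℕ} {M : X.Modules} {i : ℕ} (h : Kill hP σ b M i) (d : ℕ) : Kill hP σ (b + d) M i := by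
  intro x
  rw [powS_add, hmap_comp_apply, hmap_comp_apply, h]

theorem Kill.mono' {b b' : ℕ} {M : X.Modules} {i : ℕ} (h : Kill hP σ b M i) (hb : b ≤ b') : Kill hP σ b' M i := by
  obtain ⟨d, rfl⟩ := Nat.exists_eq_add_of_le hb
  exact h.mono d

theorem Kill.of_subsingleton {b : ℕ} {M : X.Modules} {i : ℕ} (h : Subsingleton (Coh.HH X M i)) :
    Kill hP σ b M i := fun _ => h.elim _ _

/-- `σ^b` is zero on `M`. -/
theorem Kill.of_hom_eq_zero {b : ℕ} {M : X.Modules} (h : (powS σ b).hom hP M = 0) (i : ℕ) : Kill hP σ b M i := by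
  intro x
  rw [h]
  exact hmap_zero_apply i x

variable (hP σ) in
/-- `∃ b m₀, ∀ m ≥ m₀, σ^b : H^i(F(-m-b)) → H^i(F(-m))` is zero. -/
def Nil (F : X.Modules) (i : ℕ) : Prop := ∃ b m₀ : ℕ, ∀ m, m₀ ≤ m → Kill hP σ b ((It P m).obj F) i

theorem Nil.of_subsingleton {F : X.Modules} {i : ℕ}
    (h : ∃ m₀ : ℕ, ∀ m, m₀ ≤ m → Subsingleton (Coh.HH X ((It P m).obj F) i)) : Nil hP σ F i := by
  obtain ⟨m₀, h⟩ := h
  exact ⟨0, m₀, fun m hm => .of_subsingleton (h m hm)⟩

/-- uniform constants -/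
theorem Nil.uniform {F : X.Modules} {n : ℕ} (h : ∀ i ≤ n, Nil hP σ F i) :
    ∃ b m₀ : ℕ, ∀ m, m₀ ≤ m → ∀ i ≤ n, Kill hP σ b ((It P m).obj F) i := by
  choose! b m₀ h using h
  refine ⟨(Finset.range (n + 1)).sup b, (Finset.range (n + 1)).sup m₀, fun m hm i hi => ?_⟩
  have hi' : i ∈ Finset.range (n + 1) := Finset.mem_range.mpr (by omega)
  exact (h i hi m ((Finset.le_sup hi').trans hm)).mono' (Finset.le_sup hi')

theorem Nil.of_iso {F G : X.Modules} (e : F ⟶ G) [IsIso e] {i : ℕ} (h : Nil hP σ F i) : Nil hP σ G i := by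
  obtain ⟨b, m₀, h⟩ := h
  exact ⟨b, m₀, fun m hm => (h m hm).of_iso ((It P m).map e)⟩

/-- If `σ^b` factors through `E` and `H^i(E(-m)) = 0` for large `m`. -/
theorem Nil.of_factor {K E : X.Modules} {b : ℕ} (ψ : (It P b).obj K ⟶ E) (g : E ⟶ K)
    (h : ψ ≫ g = (powS σ b).hom hP K) {i : ℕ}
    (hE : ∃ m₀ : ℕ, ∀ m, m₀ ≤ m → Subsingleton (Coh.HH X ((It P m).obj E) i)) : Nil hP σ K i := by
  obtain ⟨m₀, hE⟩ := hE
  refine ⟨b, m₀, fun m hm x => ?_⟩
  rw [hom_It, ← h, Functor.map_comp, hmap_comp_apply, hmap_comp_apply]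
  have := hE m hm
  rw [Subsingleton.elim (hmap ((It P m).map ψ) i _) 0, map_zero]

theorem Nil.of_hom_eq_zero {K : X.Modules} {b : ℕ} (h : (powS σ b).hom hP K = 0) (i : ℕ) : Nil hP σ K i := by
  refine ⟨b, 0, fun m _ => Kill.of_hom_eq_zero ?_ i⟩
  rw [hom_It, h, Functor.map_zero, comp_zero]

section ses

variable (hP) in
/-- The morphism of short complexes given by a section. -/
noncomputable def homS {b : ℕ} (s : Sec P b) (S : ShortComplex X.Modules) : S.map (It P b) ⟶ S where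
  τ₁ := s.hom hP S.X₁
  τ₂ := s.hom hP S.X₂
  τ₃ := s.hom hP S.X₃
  comm₁₂ := (s.hom_naturality hP S.f).symm
  comm₂₃ := (s.hom_naturality hP S.g).symm

variable {S : ShortComplex X.Modules} (hS : S.ShortExact)

include hS in
theorem Kill.three {b₁ b₂ : ℕ} {i : ℕ} (h₁ : Kill hP σ b₁ ((It P b₂).obj S.X₁) (i + 1)) (h₂ : Kill hP σ b₂ S.X₂ i) :
    Kill hP σ (b₂ + b₁) S.X₃ i := by
  intro x
  rw [powS_add, hmap_comp_apply, hmap_comp_apply]
  set x' := hmap (kap P b₂ b₁ S.X₃) i x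
  have hS2 := It_shortExact hP hS b₂
  have hS12 := It_shortExact hP hS2 b₁
  have h3 : δ hS2 i (hmap ((powS σ b₁).hom hP ((It P b₂).obj S.X₃)) i x') = 0 := by
    have h4 := δ_naturality hS12 hS2 (homS hP (powS σ b₁) (S.map (It P b₂))) i x'
    refine (h4.trans ?_)
    exact h₁ _
  obtain ⟨y, hy⟩ := exact₃ hS2 i _ h3
  have hy' : hmap ((It P b₂).map S.g) i y = hmap ((powS σ b₁).hom hP ((It P b₂).obj S.X₃)) i x' := hy
  rw [← hy', ← hmap_comp_apply, Sec.hom_naturality, hmap_comp_apply, h₂, map_zero]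

include hS in
theorem Nil.three {i : ℕ} (h₁ : Nil hP σ S.X₁ (i + 1)) (h₂ : Nil hP σ S.X₂ i) : Nil hP σ S.X₃ i := by
  obtain ⟨b₁, m₁, h₁⟩ := h₁
  obtain ⟨b₂, m₂, h₂⟩ := h₂
  refine ⟨b₂ + b₁, m₁ + m₂, fun m hm => ?_⟩
  refine Kill.three (It_shortExact hP hS m) ?_ (h₂ m (by omega))
  exact (h₁ (m + b₂) (by omega)).of_iso (kap P m b₂ S.X₁)

include hS in
theorem Kill.two {b₁ b₂ : ℕ} {i : ℕ} (h₁ : Kill hP σ b₁ S.X₁ i) (h₃ : Kill hP σ b₂ ((It P b₁).obj S.X₃) i) :
    Kill hP σ (b₁ + b₂) S.X₂ i := by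
  intro x
  rw [powS_add, hmap_comp_apply, hmap_comp_apply]
  set x' := hmap (kap P b₁ b₂ S.X₂) i x
  have hS1 := It_shortExact hP hS b₁
  have h4 : hmap ((It P b₁).map S.g) i (hmap ((powS σ b₂).hom hP ((It P b₁).obj S.X₂)) i x') = 0 := by
    rw [← hmap_comp_apply, ← Sec.hom_naturality, hmap_comp_apply]
    exact h₃ _
  obtain ⟨y, hy⟩ := exact₂ hS1 i _ h4
  have hy' : hmap ((It P b₁).map S.f) i y = hmap ((powS σ b₂).hom hP ((It P b₁).obj S.X₂)) i x' := hy
  rw [← hy', ← hmap_comp_apply, Sec.hom_naturality, hmap_comp_apply, h₁, map_zero]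

include hS in
theorem Nil.two {i : ℕ} (h₁ : Nil hP σ S.X₁ i) (h₃ : Nil hP σ S.X₃ i) : Nil hP σ S.X₂ i := by
  obtain ⟨b₁, m₁, h₁⟩ := h₁
  obtain ⟨b₂, m₂, h₃⟩ := h₃
  refine ⟨b₁ + b₂, m₁ + m₂, fun m hm => ?_⟩
  refine Kill.two (It_shortExact hP hS m) (h₁ m (by omega)) ?_
  exact (h₃ (m + b₁) (by omega)).of_iso (kap P m b₁ S.X₃)

end ses

end Groth.Agent.Sga2lef.H503.ItCalc
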