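import Groth.Agent.Sga2lef.H503.ItCalc

/-!
# Twists by a power of an invertible module

`P`, `P'` invertible, `GenPow P P' e`: a rule attaching to a local generator `p` of `P` a generator `ρ p` of `P'`, with
`ρ (r p) = r^e ρ p` (so that `P' = P^{⊗ e}`).

* `powHom : (It P (e * m)).obj G ⟶ (It P' m).obj G` is an isomorphism;
* `Nil.of_pow`: if `σ'.c (ρ p) = (σ.c p)^e` and `Nil σ' (F(-r)) j` for all `r < e` then `Nil σ F j`.
-/

set_option autoImplicit false
universe u
open CategoryTheory CategoryTheory.Limits AlgebraicGeometry Opposite TopologicalSpace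

namespace Groth.Agent.Sga2lef.H503.PowIt

open Groth.Agent.Ega4dA.GenSec (res resO IsGen res_self res_res res_smul res_add res_zero app_res eq_of_locally
  exists_glue isInvertible_iff resO_resO resO_mul resO_zero eqO_of_locally)
open Groth.Agent.Sga2.TwIt Groth.Agent.Sga2.NegSec
open Groth.Agent.CohqB.HSeqMod Groth.Agent.Sga2lef.H503.TwistIdeal Groth.Agent.Sga2lef.H503.ItCalc

variable {X : Scheme.{u}}

/-- `P' = P^{⊗ e}` in terms of generators. -/
structure GenPow (P P' : X.Modules) (e : ℕ) where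
  ρ : ∀ (V : X.Opens) (p : Γ(P, V)), IsGen P V p → Γ(P', V)
  isGen : ∀ (V : X.Opens) (p : Γ(P, V)) (hp : IsGen P V p), IsGen P' V (ρ V p hp)
  res_ρ : ∀ (V W : X.Opens) (h : W ≤ V) (p : Γ(P, V)) (hp : IsGen P V p),
    res P' h (ρ V p hp) = ρ W (res P h p) (hp.mono h)
  smul_ρ : ∀ (V : X.Opens) (p : Γ(P, V)) (hp : IsGen P V p) (r : Γ(X, V)) (hr : IsUnit r),
    ρ V (r • p) (hp.smul hr) = r ^ e • ρ V p hp

variable {P P' : X.Modules} {e : ℕ} (T : GenPow P P' e)

theorem GenPow.congr {V : X.Opens} {p q : Γ(P, V)} (h : p = q) (hp : IsGen P V p) (hq : IsGen P V q) :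
    T.ρ V p hp = T.ρ V q hq := by subst h; rfl

theorem exists_powHom (hP : PicF.IsInvertible P) (m : ℕ) (G : X.Modules) :
    ∃ φ : (It P (e * m)).obj G ⟶ (It P' m).obj G,
      ∀ (V : X.Opens) (p : Γ(P, V)) (hp : IsGen P V p) (x : Γ(G, V)),
        φ.app V (ev G p (e * m) x) = ev G (T.ρ V p hp) m x := by
  let R : ∀ U : X.Opens, Γ((It P (e * m)).obj G, U) → Γ((It P' m).obj G, U) → Prop := fun U z y =>
    ∀ (V : X.Opens) (h : V ≤ U) (p : Γ(P, V)) (hp : IsGen P V p) (x : Γ(G, V)),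
      ev G p (e * m) x = res _ h z → res _ h y = ev G (T.ρ V p hp) m x
  suffices hex : ∃ φ : (It P (e * m)).obj G ⟶ (It P' m).obj G,
      ∀ (U : X.Opens) (z : Γ((It P (e * m)).obj G, U)), R U z (φ.app U z) by
    obtain ⟨φ, hφ⟩ := hex
    refine ⟨φ, fun V p hp x => ?_⟩
    have := hφ V (ev _ p (e * m) x) V le_rfl p hp x (by rw [res_self])
    rwa [res_self] at this
  refine Groth.Agent.Sga2.LocHom.exists_hom R ?_ ?_ ?_ ?_ ?_ ?_
  · intro U V h z y hR W hW p hp x hx
    rw [res_res] at hx ⊢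
    exact hR W (hW.trans h) p hp x hx
  · intro U z y y' hR hR'
    refine eq_of_locally _ fun x hx => ?_
    obtain ⟨V, hV, hxV, p, hp⟩ := exists_gen hP U x hx
    obtain ⟨a, ha⟩ := (ev_bijective G hp (e * m)).2 (res _ hV z)
    exact ⟨V, hV, hxV, (hR V hV p hp a ha).trans (hR' V hV p hp a ha).symm⟩
  · intro U z x hx
    obtain ⟨V, hV, hxV, p, hp⟩ := exists_gen hP U x hx
    obtain ⟨a, ha⟩ := (ev_bijective G hp (e * m)).2 (res _ hV z)
    refine ⟨V, hV, hxV, ev G (T.ρ V p hp) m a, fun W hW p' hp' a' ha' => ?_⟩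
    obtain ⟨r, hr⟩ := (hp.mono hW).exists_unit hp'
    have h1 : ev G p' (e * m) a' = r.1 ^ (e * m) • ev G (res P hW p) (e * m) a' := by
      rw [← hr, ev_smul_gen]
    rw [← ha, res_ev, h1, ← ev_smul] at ha'
    have h2 := (ev_bijective G (hp.mono hW) (e * m)).1 ha'
    have h3 : T.ρ W p' hp' = r.1 ^ e • T.ρ W (res P hW p) (hp.mono hW) := by
      rw [← T.smul_ρ W _ (hp.mono hW) r.1 r.isUnit]
      exact T.congr hr.symm _ _
    rw [res_ev, h3, ev_smul_gen, ← ev_smul, T.res_ρ, ← h2, ← pow_mul]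
  · intro U z y hloc V hV p hp x hx
    refine eq_of_locally _ fun w hw => ?_
    obtain ⟨W, hW, hwW, hR⟩ := hloc w (hV hw)
    refine ⟨V ⊓ W, inf_le_left, ⟨hw, hwW⟩, ?_⟩
    have h1 := hR (V ⊓ W) inf_le_right (res P inf_le_left p) (hp.mono _) (res _ inf_le_left x) (by
      rw [← res_ev, hx, res_res, res_res])
    rw [res_res] at h1
    rw [res_res, h1, res_ev, T.res_ρ]
  · intro U z z' y y' hR hR' V hV p hp x hx
    obtain ⟨a, ha⟩ := (ev_bijective G hp (e * m)).2 (res _ hV z)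
    obtain ⟨a', ha'⟩ := (ev_bijective G hp (e * m)).2 (res _ hV z')
    have h1 : x = a + a' := (ev_bijective G hp (e * m)).1 (by rw [hx, ev_add, ha, ha', res_add])
    rw [res_add, hR V hV p hp a ha, hR' V hV p hp a' ha', h1, ev_add]
  · intro U r z y hR V hV p hp x hx
    obtain ⟨a, ha⟩ := (ev_bijective G hp (e * m)).2 (res _ hV z)
    have h1 : x = resO X hV r • a := (ev_bijective G hp (e * m)).1 (by rw [hx, ev_smul, ha, res_smul])
    rw [res_smul, hR V hV p hp a ha, h1, ev_smul]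

variable (hP : PicF.IsInvertible P)

/-- `G(em) ⟶ G(m)'`. -/
noncomputable def powHom (m : ℕ) (G : X.Modules) : (It P (e * m)).obj G ⟶ (It P' m).obj G :=
  (exists_powHom T hP m G).choose

theorem powHom_ev (m : ℕ) (G : X.Modules) {V : X.Opens} {p : Γ(P, V)} (hp : IsGen P V p) (x : Γ(G, V)) :
    (powHom T hP m G).app V (ev G p (e * m) x) = ev G (T.ρ V p hp) m x :=
  (exists_powHom T hP m G).choose_spec V p hp x

theorem powHom_bijective (m : ℕ) (G : X.Modules) {V : X.Opens} {p : Γ(P, V)} (hp : IsGen P V p) :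
    Function.Bijective ((powHom T hP m G).app V) := by
  have h1 : Function.Bijective (fun x : Γ(G, V) => ev G (T.ρ V p hp) m x) := ev_bijective G (T.isGen V p hp) m
  have h2 := ev_bijective G hp (e * m)
  rw [← h2.of_comp_iff]
  convert h1 using 1
  funext x
  exact powHom_ev T hP m G hp x

instance isIso_powHom (m : ℕ) (G : X.Modules) : IsIso (powHom T hP m G) := by
  have h1 : Mono (powHom T hP m G) := by
    refine mono_of_injective _ fun U => ?_
    rw [injective_iff_map_eq_zero]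
    intro z hz
    refine eq_of_locally _ fun x hx => ?_
    obtain ⟨V, hV, hxV, p, hp⟩ := exists_gen hP U x hx
    refine ⟨V, hV, hxV, (powHom_bijective T hP m G hp).1 ?_⟩
    rw [app_res, hz, res_zero, res_zero, map_zero]
  have h2 : Epi (powHom T hP m G) := by
    refine Groth.Agent.PerfB.ModExact.epi_of_locally_surjective _ fun U y x hx => ?_
    obtain ⟨V, hV, hxV, p, hp⟩ := exists_gen hP U x hx
    obtain ⟨z, hz⟩ := (powHom_bijective T hP m G hp).2 (res _ hV y)
    exact ⟨V, hV, hxV, z, hz⟩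
  exact isIso_of_mono_of_epi _

variable {hP} {hP' : PicF.IsInvertible P'} {σ : Sec P 1} {σ' : Sec P' 1}
  (hσ : ∀ (V : X.Opens) (p : Γ(P, V)) (hp : IsGen P V p),
    σ'.c V (T.ρ V p hp) (T.isGen V p hp) = σ.c V p hp ^ e)

include hσ in
theorem powHom_powS (b : ℕ) (G : X.Modules) :
    powHom T hP b G ≫ (powS σ' b).hom hP' G = (powS σ (e * b)).hom hP G := by
  refine It_hom_ext hP fun V p hp x => ?_
  change ((powS σ' b).hom hP' G).app V ((powHom T hP b G).app V (ev G p (e * b) x)) = _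
  rw [powHom_ev T hP b G hp, Sec.hom_ev _ hP' _ (T.isGen V p hp), Sec.hom_ev _ hP _ hp, powS_c, powS_c, hσ, ← pow_mul]

include hσ in
theorem Kill.of_pow {b : ℕ} {G : X.Modules} {j : ℕ} (h : Kill hP' σ' b G j) : Kill hP σ (e * b) G j := by
  intro x
  rw [← powHom_powS T (hP := hP) (hP' := hP') hσ, hmap_comp_apply, h]

include hσ in
theorem Nil.of_pow (he : 0 < e) {F : X.Modules} {j : ℕ} (h : ∀ r < e, Nil hP' σ' ((It P r).obj F) j) :
    Nil hP σ F j := by
  choose! b m₀ h using h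
  refine ⟨e * (Finset.range e).sup b, e * (Finset.range e).sup m₀ + e, fun m hm => ?_⟩
  have hr : m % e < e := Nat.mod_lt _ he
  have hr' : m % e ∈ Finset.range e := Finset.mem_range.mpr hr
  have hq : (Finset.range e).sup m₀ ≤ m / e := by
    rw [Nat.le_div_iff_mul_le he, mul_comm]
    omega
  have h1 := (h (m % e) hr (m / e) ((Finset.le_sup hr').trans hq)).mono' (Finset.le_sup (f := b) hr')
  have h2 := Kill.of_pow T (hP := hP) (hP' := hP') hσ h1
  have h3 := h2.of_iso (inv (powHom T hP (m / e) ((It P (m % e)).obj F)))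
  have h4 := h3.of_iso (inv (kap P (m % e) (e * (m / e)) F))
  exact h4.of_iso (deg P (Nat.mod_add_div m e) F)

end Groth.Agent.Sga2lef.H503.PowIt
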