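import Groth.Agent.Sga2lef.H503.ItCalc
import Groth.Agent.CohtopA.PushClosed

/-!
# Twists and direct images

`i : X ⟶ Z`, `Q` an invertible module on `Z`, `P` one on `X`, `μ : Q ⟶ i_* P` mapping generators to generators.

* `pushIso : (It Q m).obj (i_* G) ⟶ i_* ((It P m).obj G)` is an isomorphism;
* `σZ : Sec Q 1`, `σ : Sec P 1` with `σ.c (μ q) = i^♯ (σZ.c q)`: compatibility of `powS σZ b` and `powS σ b`;
* `Nil.of_push`: for a closed immersion `Nil σZ (i_* F) j → Nil σ F j`.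
-/

set_option autoImplicit false
universe u
open CategoryTheory CategoryTheory.Limits AlgebraicGeometry Opposite TopologicalSpace

namespace Groth.Agent.Sga2lef.H503.PushIt

open Groth.Agent.Ega4dA.GenSec (res resO IsGen res_self res_res res_smul res_add res_zero app_res eq_of_locally
  exists_glue isInvertible_iff resO_resO resO_mul resO_zero eqO_of_locally)
open Groth.Agent.Sga2.TwIt Groth.Agent.Sga2.NegSec
open Groth.Agent.CohqB.HSeqMod Groth.Agent.Sga2lef.H503.TwistIdeal Groth.Agent.Sga2lef.H503.ItCalc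

variable {X Z : Scheme.{u}} (i : X ⟶ Z)

/-- The direct image functor. -/
noncomputable abbrev pf : X.Modules ⥤ Z.Modules := Scheme.Modules.pushforward i

/-- sections of the direct image -/
def toP {M : X.Modules} {V : Z.Opens} (x : Γ(M, i ⁻¹ᵁ V)) : Γ((pf i).obj M, V) := x

/-- sections of the direct image -/
def ofP {M : X.Modules} {V : Z.Opens} (x : Γ((pf i).obj M, V)) : Γ(M, i ⁻¹ᵁ V) := x

/-- functions -/
noncomputable def pb {V : Z.Opens} (r : Γ(Z, V)) : Γ(X, i ⁻¹ᵁ V) := i.app V r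

section basic

variable {M N : X.Modules} {V W : Z.Opens}

theorem ofP_smul (r : Γ(Z, V)) (x : Γ((pf i).obj M, V)) : ofP i (r • x) = pb i r • ofP i x := rfl
theorem toP_smul (r : Γ(Z, V)) (x : Γ(M, i ⁻¹ᵁ V)) : toP i (pb i r • x) = r • toP i x := rfl
theorem ofP_add (x y : Γ((pf i).obj M, V)) : ofP i (x + y) = ofP i x + ofP i y := rfl
theorem ofP_res (h : W ≤ V) (x : Γ((pf i).obj M, V)) :
    ofP i (res _ h x) = res M (i.preimage_mono h) (ofP i x) := rfl
theorem ofP_app (φ : M ⟶ N) (x : Γ((pf i).obj M, V)) : ofP i (((pf i).map φ).app V x) = φ.app _ (ofP i x) := rfl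
theorem pb_res (h : W ≤ V) (r : Γ(Z, V)) : pb i (resO Z h r) = resO X (i.preimage_mono h) (pb i r) :=
  congr(($(i.naturality (homOfLE h).op)).hom r)
theorem pb_pow (r : Γ(Z, V)) (n : ℕ) : pb i (r ^ n) = pb i r ^ n := map_pow (i.app V).hom r n
theorem pb_mul (r s : Γ(Z, V)) : pb i (r * s) = pb i r * pb i s := map_mul (i.app V).hom r s
theorem pb_isUnit {r : Γ(Z, V)} (h : IsUnit r) : IsUnit (pb i r) := h.map (i.app V).hom

end basic

section Iso

variable {Q : Z.Modules} {P : X.Modules} (μ : Q ⟶ (pf i).obj P)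
  (hμ : ∀ (V : Z.Opens) (q : Γ(Q, V)), IsGen Q V q → IsGen P (i ⁻¹ᵁ V) (ofP i (μ.app V q)))

include hμ in
theorem exists_pushHom (hQ : PicF.IsInvertible Q) (m : ℕ) (G : X.Modules) :
    ∃ φ : (It Q m).obj ((pf i).obj G) ⟶ (pf i).obj ((It P m).obj G),
      ∀ (V : Z.Opens) (q : Γ(Q, V)) (_ : IsGen Q V q) (x : Γ((pf i).obj G, V)),
        φ.app V (ev ((pf i).obj G) q m x) = toP i (ev G (ofP i (μ.app V q)) m (ofP i x)) := by
  let R : ∀ U : Z.Opens, Γ((It Q m).obj ((pf i).obj G), U) → Γ((pf i).obj ((It P m).obj G), U) → Prop := fun U z y =>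
    ∀ (V : Z.Opens) (h : V ≤ U) (q : Γ(Q, V)) (hq : IsGen Q V q) (x : Γ((pf i).obj G, V)),
      ev ((pf i).obj G) q m x = res _ h z → res _ h y = toP i (ev G (ofP i (μ.app V q)) m (ofP i x))
  suffices hex : ∃ φ : (It Q m).obj ((pf i).obj G) ⟶ (pf i).obj ((It P m).obj G),
      ∀ (U : Z.Opens) (z : Γ((It Q m).obj ((pf i).obj G), U)), R U z (φ.app U z) by
    obtain ⟨φ, hφ⟩ := hex
    refine ⟨φ, fun V q hq x => ?_⟩
    have := hφ V (ev _ q m x) V le_rfl q hq x (by rw [res_self])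
    rwa [res_self] at this
  refine Groth.Agent.Sga2.LocHom.exists_hom R ?_ ?_ ?_ ?_ ?_ ?_
  · intro U V h z y hR W hW q hq x hx
    rw [res_res] at hx ⊢
    exact hR W (hW.trans h) q hq x hx
  · intro U z y y' hR hR'
    refine eq_of_locally _ fun x hx => ?_
    obtain ⟨V, hV, hxV, q, hq⟩ := exists_gen hQ U x hx
    obtain ⟨a, ha⟩ := (ev_bijective ((pf i).obj G) hq m).2 (res _ hV z)
    exact ⟨V, hV, hxV, (hR V hV q hq a ha).trans (hR' V hV q hq a ha).symm⟩
  · intro U z x hx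
    obtain ⟨V, hV, hxV, q, hq⟩ := exists_gen hQ U x hx
    obtain ⟨a, ha⟩ := (ev_bijective ((pf i).obj G) hq m).2 (res _ hV z)
    refine ⟨V, hV, hxV, toP i (ev G (ofP i (μ.app V q)) m (ofP i a)), fun W hW q' hq' a' ha' => ?_⟩
    obtain ⟨r, hr⟩ := (hq.mono hW).exists_unit hq'
    have h1 : ev ((pf i).obj G) q' m a' = r.1 ^ m • ev ((pf i).obj G) (res Q hW q) m a' := by
      rw [← hr, ev_smul_gen]
    rw [← ha, res_ev, h1, ← ev_smul] at ha'
    have h2 := (ev_bijective ((pf i).obj G) (hq.mono hW) m).1 ha'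
    have h3 : ofP i (μ.app W q') = pb i r.1 • res P (i.preimage_mono hW) (ofP i (μ.app V q)) := by
      rw [← hr, Scheme.Modules.Hom.app_smul, app_res, ofP_smul, ofP_res]
    change toP i (res _ (i.preimage_mono hW) (ev G (ofP i (μ.app V q)) m (ofP i a))) = _
    have h4 : res G (i.preimage_mono hW) (ofP i a) = ofP i (res _ hW a) := rfl
    rw [res_ev, h3, ev_smul_gen, ← ev_smul, h4, ← h2, ofP_smul, pb_pow]
  · intro U z y hloc V hV q hq x hx
    refine eq_of_locally _ fun w hw => ?_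
    obtain ⟨W, hW, hwW, hR⟩ := hloc w (hV hw)
    refine ⟨V ⊓ W, inf_le_left, ⟨hw, hwW⟩, ?_⟩
    have h1 := hR (V ⊓ W) inf_le_right (res Q inf_le_left q) (hq.mono _) (res _ inf_le_left x) (by
      rw [← res_ev, hx, res_res, res_res])
    rw [res_res] at h1
    rw [res_res, h1]
    change _ = toP i (res _ (i.preimage_mono inf_le_left) (ev G (ofP i (μ.app V q)) m (ofP i x)))
    rw [res_ev, app_res, ofP_res, ofP_res]
  · intro U z z' y y' hR hR' V hV q hq x hx
    obtain ⟨a, ha⟩ := (ev_bijective ((pf i).obj G) hq m).2 (res _ hV z)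
    obtain ⟨a', ha'⟩ := (ev_bijective ((pf i).obj G) hq m).2 (res _ hV z')
    have h1 : x = a + a' := (ev_bijective ((pf i).obj G) hq m).1 (by rw [hx, ev_add, ha, ha', res_add])
    rw [res_add, hR V hV q hq a ha, hR' V hV q hq a' ha', h1, ofP_add, ev_add]
    rfl
  · intro U r z y hR V hV q hq x hx
    obtain ⟨a, ha⟩ := (ev_bijective ((pf i).obj G) hq m).2 (res _ hV z)
    have h1 : x = resO Z hV r • a := (ev_bijective ((pf i).obj G) hq m).1 (by rw [hx, ev_smul, ha, res_smul])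
    rw [res_smul, hR V hV q hq a ha, h1, ofP_smul, ev_smul, toP_smul]

variable (hQ : PicF.IsInvertible Q)

/-- `(i_* G)(m) ⟶ i_* (G(m))`. -/
noncomputable def pushHom (m : ℕ) (G : X.Modules) : (It Q m).obj ((pf i).obj G) ⟶ (pf i).obj ((It P m).obj G) :=
  (exists_pushHom i μ hμ hQ m G).choose

theorem pushHom_ev (m : ℕ) (G : X.Modules) {V : Z.Opens} {q : Γ(Q, V)} (hq : IsGen Q V q)
    (x : Γ((pf i).obj G, V)) : (pushHom i μ hμ hQ m G).app V (ev ((pf i).obj G) q m x) =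
      toP i (ev G (ofP i (μ.app V q)) m (ofP i x)) :=
  (exists_pushHom i μ hμ hQ m G).choose_spec V q hq x

theorem pushHom_bijective (m : ℕ) (G : X.Modules) {V : Z.Opens} {q : Γ(Q, V)} (hq : IsGen Q V q) :
    Function.Bijective ((pushHom i μ hμ hQ m G).app V) := by
  have h1 : Function.Bijective (fun x : Γ((pf i).obj G, V) => toP i (ev G (ofP i (μ.app V q)) m (ofP i x))) :=
    ev_bijective G (hμ V q hq) m
  have h2 := ev_bijective ((pf i).obj G) hq m
  rw [← h2.of_comp_iff]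
  convert h1 using 1
  funext x
  exact pushHom_ev i μ hμ hQ m G hq x

instance isIso_pushHom (m : ℕ) (G : X.Modules) : IsIso (pushHom i μ hμ hQ m G) := by
  have h1 : Mono (pushHom i μ hμ hQ m G) := by
    refine mono_of_injective _ fun U => ?_
    rw [injective_iff_map_eq_zero]
    intro z hz
    refine eq_of_locally _ fun x hx => ?_
    obtain ⟨V, hV, hxV, q, hq⟩ := exists_gen hQ U x hx
    refine ⟨V, hV, hxV, (pushHom_bijective i μ hμ hQ m G hq).1 ?_⟩
    rw [app_res, hz, res_zero, res_zero, map_zero]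
  have h2 : Epi (pushHom i μ hμ hQ m G) := by
    refine Groth.Agent.PerfB.ModExact.epi_of_locally_surjective _ fun U y x hx => ?_
    obtain ⟨V, hV, hxV, q, hq⟩ := exists_gen hQ U x hx
    obtain ⟨z, hz⟩ := (pushHom_bijective i μ hμ hQ m G hq).2 (res _ hV y)
    exact ⟨V, hV, hxV, z, hz⟩
  exact isIso_of_mono_of_epi _

variable {σZ : Sec Q 1} {σ : Sec P 1} (hP : PicF.IsInvertible P)
  (hσ : ∀ (V : Z.Opens) (q : Γ(Q, V)) (hq : IsGen Q V q),
    σ.c (i ⁻¹ᵁ V) (ofP i (μ.app V q)) (hμ V q hq) = pb i (σZ.c V q hq))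

include hσ in
theorem pushHom_powS (b : ℕ) (G : X.Modules) :
    pushHom i μ hμ hQ b G ≫ (pf i).map ((powS σ b).hom hP G) = (powS σZ b).hom hQ ((pf i).obj G) := by
  refine It_hom_ext hQ fun V q hq x => ?_
  change ((pf i).map ((powS σ b).hom hP G)).app V ((pushHom i μ hμ hQ b G).app V (ev _ q b x)) = _
  rw [pushHom_ev i μ hμ hQ b G hq, Sec.hom_ev _ hQ _ hq]
  change toP i (((powS σ b).hom hP G).app _ (ev G (ofP i (μ.app V q)) b (ofP i x))) = _
  rw [Sec.hom_ev _ hP _ (hμ V q hq), powS_c, hσ, ← pb_pow, toP_smul]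
  rfl

end Iso

section Coh

variable [IsClosedImmersion i]

theorem preservesFiniteColimits_push : PreservesFiniteColimits (CohTop.push i.base) :=
  CohtopA.PushClosed.preservesFiniteColimits_push_of_isClosedEmbedding i.base i.isClosedEmbedding

/-- `H^n(X, M) ≃ H^n(Z, i_* M)`. -/
noncomputable def hEquiv (M : X.Modules) (n : ℕ) : Coh.HH X M n ≃+ Coh.HH Z ((pf i).obj M) n :=
  letI := preservesFiniteColimits_push i
  CohtopA.PushClosed.HPushEquiv i.base (Coh.toAb M) n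

theorem hEquiv_naturality {M N : X.Modules} (φ : M ⟶ N) (n : ℕ) (x : Coh.HH X M n) :
    hEquiv i N n (hmap φ n x) = hmap ((pf i).map φ) n (hEquiv i M n x) := by
  let _ := preservesFiniteColimits_push i
  have h1 := CohtopA.ExtAdj.extOfHom_comp (CohTop.push i.base) (CohtopA.PushClosed.constHom i.base)
    (show CategoryTheory.Abelian.Ext _ (Coh.toAb M) n from x) (Abelian.Ext.mk₀ ((Groth.Agent.CohqB.ToSheafExact.toAbF X).map φ)) (add_zero n)
  rw [Abelian.Ext.mapExactFunctor_mk₀] at h1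
  exact h1

end Coh

section Kill

variable [IsClosedImmersion i] {Q : Z.Modules} {P : X.Modules} (μ : Q ⟶ (pf i).obj P)
  (hμ : ∀ (V : Z.Opens) (q : Γ(Q, V)), IsGen Q V q → IsGen P (i ⁻¹ᵁ V) (ofP i (μ.app V q)))
  {hQ : PicF.IsInvertible Q} {σZ : Sec Q 1} {σ : Sec P 1} {hP : PicF.IsInvertible P}
  (hσ : ∀ (V : Z.Opens) (q : Γ(Q, V)) (hq : IsGen Q V q),
    σ.c (i ⁻¹ᵁ V) (ofP i (μ.app V q)) (hμ V q hq) = pb i (σZ.c V q hq))

include hσ in
theorem Kill.of_push {b : ℕ} {G : X.Modules} {j : ℕ} (h : Kill hQ σZ b ((pf i).obj G) j) : Kill hP σ b G j := by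
  intro x
  apply (hEquiv i G j).injective
  rw [hEquiv_naturality, map_zero]
  have h1 : hEquiv i ((It P b).obj G) j x = hmap (pushHom i μ hμ hQ b G) j
      (hmap (inv (pushHom i μ hμ hQ b G)) j (hEquiv i ((It P b).obj G) j x)) := by
    rw [← hmap_comp_apply, IsIso.inv_hom_id]
    exact (hmap_id_apply j _).symm
  rw [h1, ← hmap_comp_apply, pushHom_powS i μ hμ hQ hP hσ]
  exact h _

include hσ in
theorem Nil.of_push {F : X.Modules} {j : ℕ} (h : Nil hQ σZ ((pf i).obj F) j) : Nil hP σ F j := by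
  obtain ⟨b, m₀, h⟩ := h
  exact ⟨b, m₀, fun m hm => Kill.of_push i μ hμ hσ ((h m hm).of_iso (pushHom i μ hμ hQ m F))⟩

end Kill

end Groth.Agent.Sga2lef.H503.PushIt
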