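import Groth.Agent.Sga2lef.H503.EndGame
import Groth.Agent.Sga2lef.H503.PushIt
import Groth.Agent.Sga2lef.H503.PowIt
import Groth.Agent.Ega2.TensPow
import Groth.Agent.Ega2.AmpleWeight

/-!
# Pairings `L ⊗ P ≅ O_X`: dual generators, powers, and comparison along morphisms

* `dualR θ ℓ`: the generator of `P` dual to a generator `ℓ` of `L`;
* `genPow θ θ' : GenPow P P' e` for `θ : L ⊗ P ≅ O`, `θ' : L^e ⊗ P' ≅ O`, with `σ'(ρ p) = σ(p)^e` (`genPow_c`);
* `exists_mu`: `μ : Q ⟶ g_* P'` from sections `x j` of `N` on `Z` and `t j` of `L'` on `X` with the same ratios.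
-/

set_option autoImplicit false
universe u
open CategoryTheory CategoryTheory.Limits AlgebraicGeometry Opposite TopologicalSpace

namespace Groth.Agent.Sga2lef.H503.PairMap

open Groth.Agent.Fdesc.LocGen Groth.Agent.Sga2.EszSec Groth.Agent.Sga2.TwIt Groth.Agent.Sga2.NegSec
open Groth.Agent.Sga2lef.H503.EndGame Groth.Agent.Sga2lef.H503.PushIt Groth.Agent.Sga2lef.H503.PowIt

variable {X : Scheme.{u}} {L P : X.Modules} (θ : CohB1.tensorMod L P ≅ Coh.structureModule X)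

/-- The swapped pairing. -/
noncomputable def sw : CohB1.tensorMod P L ≅ Coh.structureModule X := Groth.Agent.Ega2.Tens.swap P L ≪≫ θ

theorem pair_sw {V : X.Opens} (p : Γ(P, V)) (l : Γ(L, V)) : pair (sw θ) p l = pair θ l p := by
  unfold Groth.Agent.Sga2.EszSec.pair sw
  change ofFun.symm (θ.hom.app V ((Groth.Agent.Ega2.Tens.swap P L).hom.app V (tmul p l))) = _
  rw [Groth.Agent.Ega2.TensPow.swap_tmul]

/-- The generator of `P` dual to a generator of `L`. -/
noncomputable def dualR {V : X.Opens} (l : Γ(L, V)) (hl : IsGen l) : Γ(P, V) := dual (sw θ) l hl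

theorem pair_dualR {V : X.Opens} {l : Γ(L, V)} (hl : IsGen l) : pair θ l (dualR θ l hl) = 1 := by
  rw [← pair_sw]; exact pair_dual (sw θ) hl

theorem pairR_injective {V : X.Opens} {l : Γ(L, V)} (hl : IsGen l) {p p' : Γ(P, V)}
    (h : pair θ l p = pair θ l p') : p = p' := by
  refine (pair_bijective (sw θ) hl).1 ?_
  change pair (sw θ) p l = pair (sw θ) p' l
  rw [pair_sw, pair_sw, h]

theorem dualR_unique {V : X.Opens} {l : Γ(L, V)} (hl : IsGen l) {p : Γ(P, V)} (h : pair θ l p = 1) :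
    p = dualR θ l hl := pairR_injective θ hl (h.trans (pair_dualR θ hl).symm)

theorem res_dualR {V W : X.Opens} (h : W ≤ V) {l : Γ(L, V)} (hl : IsGen l) :
    res P h (dualR θ l hl) = dualR θ (res L h l) (hl.res h) := res_dual (sw θ) h hl

theorem isGen_dualR {V : X.Opens} {l : Γ(L, V)} (hl : IsGen l) : IsGen (dualR θ l hl) := isGen_dual (sw θ) hl

theorem isUnit_pair {V : X.Opens} {l : Γ(L, V)} (hl : IsGen l) {p : Γ(P, V)} (hp : IsGen p) :
    IsUnit (pair θ l p) := by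
  obtain ⟨u, hu, h⟩ := hl.exists_unit (isGen_dual θ hp)
  have h1 := pair_dual θ hp
  rw [h, pair_smul] at h1
  exact IsUnit.of_mul_eq_one_right u h1

section Pow

variable {P' : X.Modules} {e : ℕ} (θ' : CohB1.tensorMod (CohB1.tensorPow L e) P' ≅ Coh.structureModule X)

/-- `p ↦ p^e`. -/
noncomputable def genPow : GenPow P P' e where
  ρ V p hp := dualR θ' (pow (dual θ p hp) e) ((isGen_dual θ (p := p) hp).pow e)
  isGen V p hp := isGen_dualR θ' _
  res_ρ V W h p hp := by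
    refine (res_dualR θ' h ((isGen_dual θ (p := p) hp).pow e)).trans ?_
    congr 1
    rw [res_pow, res_dual]
    rfl
  smul_ρ V p hp r hr := by
    refine (dualR_unique θ' _ ?_).symm
    rw [pair_smul_right, ← pair_smul, ← smul_pow, smul_dual_smul θ (p := p) hp r]
    exact pair_dualR θ' _

theorem genPow_c (s : Coh.structureModule X ⟶ L) (V : X.Opens) (p : Γ(P, V)) (hp : Ega4dA.GenSec.IsGen P V p) :
    (ofSec1 θ' (powHom s e)).c V ((genPow θ θ').ρ V p hp) ((genPow θ θ').isGen V p hp) = (ofSec1 θ s).c V p hp ^ e := by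
  change pair θ' (sec (powHom s e) V) (dualR θ' (pow (dual θ p hp) e) ((isGen_dual θ (p := p) hp).pow e)) =
    pair θ (sec s V) p ^ e
  rw [sec_powHom, sec_eq θ s (p := p) hp, smul_pow, pair_smul, pair_dualR, mul_one]
  congr 1
  rw [← sec_eq θ s (p := p) hp]

end Pow

section Map

variable {Z : Scheme.{u}} (g : X ⟶ Z) {N Q : Z.Modules} (θZ : CohB1.tensorMod N Q ≅ Coh.structureModule Z)
  {I : Type*} (x : I → (Coh.structureModule Z ⟶ N)) (t : I → (Coh.structureModule X ⟶ L))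
  (hcov : ⨆ j, CohB1.genLocus N (x j) = ⊤)
  (hgen : ∀ j, g ⁻¹ᵁ (CohB1.genLocus N (x j)) ≤ CohB1.genLocus L (t j))
  (hrat : ∀ i j (V : Z.Opens) (_ : V ≤ CohB1.genLocus N (x i)) (a : Γ(Z, V)), sec (x j) V = a • sec (x i) V →
    sec (t j) (g ⁻¹ᵁ V) = pb g a • sec (t i) (g ⁻¹ᵁ V))

theorem pb_res' {V W : Z.Opens} (h : W ≤ V) (r : Γ(Z, V)) :
    pb g (ores h r) = ores (g.preimage_mono h) (pb g r) := pb_res g h r

include hcov hgen hrat in
/-- The map `Q ⟶ g_* P` dual to `x j ↦ t j`. -/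
theorem exists_mu : ∃ μ : Q ⟶ (pf g).obj P, ∀ (V : Z.Opens) (q : Γ(Q, V)) (j : I),
    pair θ (sec (t j) (g ⁻¹ᵁ V)) (ofP g (μ.app V q)) = pb g (pair θZ (sec (x j) V) q) := by
  let R : ∀ U : Z.Opens, Γ(Q, U) → Γ((pf g).obj P, U) → Prop := fun U q y =>
    ∀ j, pair θ (sec (t j) (g ⁻¹ᵁ U)) (ofP g y) = pb g (pair θZ (sec (x j) U) q)
  have hres : ∀ (U V : Z.Opens) (h : V ≤ U) (a : Γ(Q, U)) (b : Γ((pf g).obj P, U)), R U a b →
      R V (Ega4dA.GenSec.res Q h a) (Ega4dA.GenSec.res ((pf g).obj P) h b) := by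
    intro U V h a b hR j
    have h1 := congrArg (ores (g.preimage_mono h)) (hR j)
    rw [res_pair, res_sec, ← pb_res', res_pair, res_sec] at h1
    exact h1
  refine Groth.Agent.Sga2.LocHom.exists_hom R hres ?_ ?_ ?_ ?_ ?_
  · intro U a b b' hR hR'
    refine Ega4dA.GenSec.eq_of_locally _ fun z hz => ?_
    have hz' : z ∈ ⨆ j, CohB1.genLocus N (x j) := by rw [hcov]; trivial
    obtain ⟨j, hj⟩ := Opens.mem_iSup.mp hz'
    refine ⟨U ⊓ CohB1.genLocus N (x j), inf_le_left, ⟨hz, hj⟩, ?_⟩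
    have hg : IsGen (sec (t j) (g ⁻¹ᵁ (U ⊓ CohB1.genLocus N (x j)))) := by
      have := (isGen_sec_genLocus (t j)).res ((g.preimage_mono inf_le_right).trans (hgen j) :
        g ⁻¹ᵁ (U ⊓ CohB1.genLocus N (x j)) ≤ CohB1.genLocus L (t j))
      rwa [res_sec] at this
    have h1 := hres U (U ⊓ CohB1.genLocus N (x j)) inf_le_left a b hR j
    have h2 := hres U (U ⊓ CohB1.genLocus N (x j)) inf_le_left a b' hR' j
    exact pairR_injective θ hg (h1.trans h2.symm)
  · intro U a z hz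
    have hz' : z ∈ ⨆ j, CohB1.genLocus N (x j) := by rw [hcov]; trivial
    obtain ⟨i, hi⟩ := Opens.mem_iSup.mp hz'
    refine ⟨U ⊓ CohB1.genLocus N (x i), inf_le_left, ⟨hz, hi⟩, ?_⟩
    set V := U ⊓ CohB1.genLocus N (x i) with hV
    have hVi : V ≤ CohB1.genLocus N (x i) := inf_le_right
    have hg : IsGen (sec (t i) (g ⁻¹ᵁ V)) := by
      have := (isGen_sec_genLocus (t i)).res ((g.preimage_mono hVi).trans (hgen i))
      rwa [res_sec] at this
    have hx : IsGen (sec (x i) V) := by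
      have := (isGen_sec_genLocus (x i)).res hVi
      rwa [res_sec] at this
    refine ⟨toP g (pb g (pair θZ (sec (x i) V) (res Q inf_le_left a)) • dualR θ (sec (t i) (g ⁻¹ᵁ V)) hg), fun j => ?_⟩
    change pair θ (sec (t j) (g ⁻¹ᵁ V)) (pb g (pair θZ (sec (x i) V) (res Q inf_le_left a)) •
      dualR θ (sec (t i) (g ⁻¹ᵁ V)) hg) = pb g (pair θZ (sec (x j) V) (res Q inf_le_left a))
    obtain ⟨c, hc⟩ := hx.exists_eq (sec (x j) V)
    rw [hrat i j V hVi c hc, pair_smul, pair_smul_right, pair_dualR, mul_one, hc, pair_smul, pb_mul]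
  · intro U a b hloc j
    have hcompat : ∀ y ∈ g ⁻¹ᵁ U, ∃ (W : X.Opens) (hW : W ≤ g ⁻¹ᵁ U), y ∈ W ∧
        Ega4dA.GenSec.resO X hW (pair θ (sec (t j) (g ⁻¹ᵁ U)) (ofP g b)) =
          Ega4dA.GenSec.resO X hW (pb g (pair θZ (sec (x j) U) a)) := by
      intro y hy
      obtain ⟨V, hV, hyV, hR⟩ := hloc (g y) hy
      refine ⟨g ⁻¹ᵁ V, g.preimage_mono hV, hyV, ?_⟩
      have h1 := hR j
      have h2 : ores (g.preimage_mono hV) (pair θ (sec (t j) (g ⁻¹ᵁ U)) (ofP g b)) =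
          pair θ (sec (t j) (g ⁻¹ᵁ V)) (ofP g (Ega4dA.GenSec.res ((pf g).obj P) hV b)) := by
        rw [res_pair, res_sec]; rfl
      have h3 : ores (g.preimage_mono hV) (pb g (pair θZ (sec (x j) U) a)) =
          pb g (pair θZ (sec (x j) V) (Ega4dA.GenSec.res Q hV a)) := by
        rw [← pb_res', res_pair, res_sec]; rfl
      exact h2.trans (h1.trans h3.symm)
    exact Ega4dA.GenSec.eqO_of_locally hcompat
  · intro U a a' b b' hR hR' j
    have h1 : pair θ (sec (t j) (g ⁻¹ᵁ U)) (ofP g (b + b')) =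
        pair θ (sec (t j) (g ⁻¹ᵁ U)) (ofP g b) + pair θ (sec (t j) (g ⁻¹ᵁ U)) (ofP g b') := by
      rw [ofP_add]
      unfold Groth.Agent.Sga2.EszSec.pair
      rw [tmul_add, map_add, map_add]
    have h2 : pair θZ (sec (x j) U) (a + a') = pair θZ (sec (x j) U) a + pair θZ (sec (x j) U) a' := by
      unfold Groth.Agent.Sga2.EszSec.pair
      rw [tmul_add, map_add, map_add]
    rw [h1, hR j, hR' j, h2]
    exact (map_add (g.app U).hom _ _).symm
  · intro U r a b hR j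
    rw [ofP_smul, pair_smul_right, hR j, pair_smul_right, pb_mul]

include hcov hgen in
/-- `μ` preserves generators. -/
theorem isGen_mu (μ : Q ⟶ (pf g).obj P) (hμ : ∀ (V : Z.Opens) (q : Γ(Q, V)) (j : I),
    pair θ (sec (t j) (g ⁻¹ᵁ V)) (ofP g (μ.app V q)) = pb g (pair θZ (sec (x j) V) q))
    (V : Z.Opens) (q : Γ(Q, V)) (hq : IsGen q) : IsGen (ofP g (μ.app V q)) := by
  rw [isGen_iff_forall_exists]
  intro y hy
  have hz' : g y ∈ ⨆ j, CohB1.genLocus N (x j) := by rw [hcov]; trivial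
  obtain ⟨i, hi⟩ := Opens.mem_iSup.mp hz'
  have hVi : V ⊓ CohB1.genLocus N (x i) ≤ CohB1.genLocus N (x i) := inf_le_right
  refine ⟨g ⁻¹ᵁ (V ⊓ CohB1.genLocus N (x i)), g.preimage_mono inf_le_left, ⟨hy, hi⟩, ?_⟩
  have hg : IsGen (sec (t i) (g ⁻¹ᵁ (V ⊓ CohB1.genLocus N (x i)))) := by
    have := (isGen_sec_genLocus (t i)).res ((g.preimage_mono hVi).trans (hgen i))
    rwa [res_sec] at this
  have hx : IsGen (sec (x i) (V ⊓ CohB1.genLocus N (x i))) := by
    have := (isGen_sec_genLocus (x i)).res hVi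
    rwa [res_sec] at this
  have h1 := hμ (V ⊓ CohB1.genLocus N (x i)) (res Q inf_le_left q) i
  have h2 : ofP g (μ.app _ (res Q (inf_le_left : V ⊓ CohB1.genLocus N (x i) ≤ V) q)) =
      res P (g.preimage_mono inf_le_left) (ofP g (μ.app V q)) := by
    rw [app_res]; rfl
  rw [h2] at h1
  have hu : IsUnit (pb g (pair θZ (sec (x i) (V ⊓ CohB1.genLocus N (x i))) (res Q inf_le_left q))) :=
    pb_isUnit g (isUnit_pair θZ hx (hq.res inf_le_left))
  have h3 : res P (g.preimage_mono inf_le_left) (ofP g (μ.app V q)) =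
      pb g (pair θZ (sec (x i) (V ⊓ CohB1.genLocus N (x i))) (res Q inf_le_left q)) •
        dualR θ (sec (t i) (g ⁻¹ᵁ (V ⊓ CohB1.genLocus N (x i)))) hg := by
    refine pairR_injective θ hg ?_
    rw [h1, pair_smul_right, pair_dualR, mul_one]
  rw [h3]
  exact (isGen_dualR θ hg).unit_smul hu

end Map

end Groth.Agent.Sga2lef.H503.PairMap
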