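import Groth.Agent.Sga2lef.H503.RegNil
import Groth.Agent.Sga2lef.H503.EndGame
import Groth.Agent.Sga2.LefAmple389
import Groth.Agent.Sga2.ESZ
import Groth.Agent.Sga67.LocBasisOps
import Groth.Agent.Ega2.QCohLocal

/-!
# `RegData` for an ample module on a regular proper scheme

`Z` integral, proper over a field, regular at the closed points of dimension `r`; `N` ample, `N ⊗ Q ≅ O`, `x : O ⟶ N` with
`Z_x` affine, nonempty.  Then `RegData (ofSec1 θ x) Z_x r`.
-/

set_option autoImplicit false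
universe u
open CategoryTheory CategoryTheory.Limits AlgebraicGeometry Opposite TopologicalSpace

namespace Groth.Agent.Sga2lef.H503.PnReg

open Groth.Agent.Fdesc.LocGen Groth.Agent.Sga2.EszSec Groth.Agent.Sga2.TwIt Groth.Agent.Sga2.NegSec
open Groth.Agent.Sga2lef.H503.EndGame Groth.Agent.Sga2lef.H503.HomExt Groth.Agent.Sga2lef.H503.RegNil
open Groth.Agent.Ega2

variable {Z : Scheme.{u}} {N Q : Z.Modules}

theorem isLocus_ofSec1 (θ : CohB1.tensorMod N Q ≅ Coh.structureModule Z) (x : Coh.structureModule Z ⟶ N) :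
    IsLocus (ofSec1 θ x) (CohB1.genLocus N x) := by
  intro V q hq
  have h := genLocus_inf_eq x (isGen_dual θ (p := q) hq) (sec_eq θ x (p := q) hq)
  rw [inf_comm]
  exact h

theorem isFinLocFree_free (X : Scheme.{u}) (κ : Type u) [Finite κ] :
    FlatMod.IsFinLocFree (SheafOfModules.free κ : X.Modules) := by
  obtain ⟨n, ⟨e⟩⟩ := Finite.exists_equiv_fin κ
  let f : FlatMod.freeMod X n ≅ (SheafOfModules.free κ : X.Modules) :=
    Sigma.whiskerEquiv (C := X.Modules) (f := fun _ : Fin n => Coh.structureModule X)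
      (g := fun _ : κ => Coh.structureModule X) e.symm (fun _ => Iso.refl _)
  exact Groth.Agent.Dcoh.FinLocFree.isFinLocFree_of_iso f (Groth.Agent.Dcoh.FinLocFree.isFinLocFree_freeMod X n)

/-- resolutions -/
theorem exists_res (hL : ClSub.IsInverseOf N Q) (hamp : CohB1.IsAmple N) (M : Z.Modules) (hM : Coh.IsCoh M) :
    ∃ (E : Z.Modules) (g : E ⟶ M), Epi g ∧ Coh.IsCoh E ∧ FlatMod.IsFinLocFree E := by
  obtain ⟨n, κ, _, π, hπ⟩ := Groth.Agent.Sga2.LefAmple389.exists_epi hL hamp hM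
  have hQ : PicF.IsInvertible Q := (Groth.Agent.Dix.IdealModCartier.isInvertible_of_isInverseOf hL).2
  have hE : Coh.IsCoh (CohB1.tensorMod (SheafOfModules.free κ : Z.Modules) (CohB1.tensorPow Q n)) :=
    GlobGenCrit.isCoh_tensor (Groth.Agent.PerfA.CohSerre.isCoh_free κ) (Groth.Agent.Fdesc.LocGen.isInvertible_tensorPow hQ n)
  refine ⟨_, π, hπ, hE, ?_⟩
  exact Groth.Agent.Sga67.LocBasis.isFinLocFree_tensorMod (isFinLocFree_free Z κ)
    (QCohLocal.isFinLocFree_of_rank (QCohLocal.isFinLocFreeOfRank_one_iff.2 (Groth.Agent.Fdesc.LocGen.isInvertible_tensorPow hQ n)))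

theorem regData (k : Type u) [Field k] (Z : Scheme.{u}) [Z.Over (Spec (CommRingCat.of k))]
    [IsProper (Z ↘ Spec (CommRingCat.of k))] [IsIntegral Z] [IsLocallyNoetherian Z] {N Q : Z.Modules}
    (θ : CohB1.tensorMod N Q ≅ Coh.structureModule Z) (hamp : CohB1.IsAmple N)
    (x : Coh.structureModule Z ⟶ N) (haff : IsAffineOpen (CohB1.genLocus N x))
    (hne : (CohB1.genLocus N x : Set Z).Nonempty) (r : ℕ)
    (hreg : ∀ z : Z, IsClosed ({z} : Set Z) → IsRegularLocalRing (Z.presheaf.stalk z))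
    (hdim : ∀ z : Z, IsClosed ({z} : Set Z) → ringKrullDim (Z.presheaf.stalk z) = r) :
    RegData (ofSec1 θ x) (CohB1.genLocus N x) r where
  locus := isLocus_ofSec1 θ x
  aff := haff
  reg := hreg
  dim := hdim
  res := exists_res ⟨θ⟩ hamp
  van E hE hf := by
    rcases r with _ | r
    · exact ⟨0, fun m _ i hi => absurd hi (Nat.not_lt_zero i)⟩
    · obtain ⟨m₀, h⟩ := Groth.Agent.Sga2.ESZ.esz_It k Z ⟨θ⟩ hamp E hE r (fun z hz => by
        have := hreg z hz
        have h1 := le_depth_flf hE hf z (hdim z hz)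
        refine lt_of_lt_of_le ?_ h1
        exact_mod_cast Nat.lt_succ_self r)
      exact ⟨m₀, fun m hm i hi => h m hm i (Nat.le_of_lt_succ hi)⟩
  tf E hE hf := tf_of_flf (isLocus_ofSec1 θ x) hne hE.1 hf

end Groth.Agent.Sga2lef.H503.PnReg
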