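import Groth.Agent.Sga2lef.H503.PushIt
import Groth.Agent.CycB.PushStalk
import Groth.Agent.Sga3C.QSliceAlg
import Groth.Agent.Localalg.Depth

/-!
# Depth of the stalks of the direct image under a closed immersion
-/

set_option autoImplicit false
universe u
open CategoryTheory CategoryTheory.Limits AlgebraicGeometry Opposite TopologicalSpace

namespace Groth.Agent.Sga2lef.H503.PushDepth

open Groth.Agent.Sga2lef.H503.PushIt Groth.Agent.CycB.PushStalk

variable {X Z : Scheme.{u}} (i : X ⟶ Z) [IsClosedImmersion i]

theorem depth_push (F : X.Modules) (x : X) :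
    LocCoh.depth (Z.presheaf.stalk (i x)) (((pf i).obj F).presheaf.stalk (i x)) =
      LocCoh.depth (X.presheaf.stalk x) (F.presheaf.stalk x) := by
  let _ : Algebra (Z.presheaf.stalk (i x)) (X.presheaf.stalk x) := (i.stalkMap x).hom.toAlgebra
  let _ : Module (Z.presheaf.stalk (i x)) (F.presheaf.stalk x) :=
    Module.compHom (F.presheaf.stalk x) (i.stalkMap x).hom
  have : IsScalarTower (Z.presheaf.stalk (i x)) (X.presheaf.stalk x) (F.presheaf.stalk x) :=
    IsScalarTower.of_algebraMap_smul fun _ _ => rfl
  have hs : Function.Surjective (algebraMap (Z.presheaf.stalk (i x)) (X.presheaf.stalk x)) :=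
    i.stalkMap_surjective x
  rw [← Groth.Agent.Sga3C.QSliceAlg.depth_of_surjective hs (F.presheaf.stalk x)]
  let l : ((pf i).obj F).presheaf.stalk (i x) →ₗ[Z.presheaf.stalk (i x)] F.presheaf.stalk x :=
    { toFun := pushStalk i F x
      map_add' := map_add _
      map_smul' := fun r m => (pushStalk i F x).map_smulₛₗ r m }
  exact Groth.Agent.Localalg.Depth.idealDepth_congr_equiv _
    (LinearEquiv.ofBijective l (pushStalk_bijective i i.isClosedEmbedding.isInducing F x))

theorem depth_push_of_notMem (F : X.Modules) (z : Z) (hz : z ∉ Set.range i) :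
    LocCoh.depth (Z.presheaf.stalk z) (((pf i).obj F).presheaf.stalk z) = ⊤ := by
  have := subsingleton_stalk_push i F z (by rwa [i.isClosedEmbedding.isClosed_range.closure_eq])
  exact Groth.Agent.Localalg.Depth.idealDepth_eq_top_of_subsingleton _ _

/-- Depth at the closed points of an open subset. -/
theorem lt_depth_push (F : X.Modules) (U : Z.Opens) (n : ℕ)
    (hd : ∀ x ∈ i ⁻¹ᵁ U, IsClosed ({x} : Set X) → (n : ℕ∞) < LocCoh.depth (X.presheaf.stalk x) (F.presheaf.stalk x))
    (z : Z) (hz : z ∈ U) (hcl : IsClosed ({z} : Set Z)) :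
    (n : ℕ∞) < LocCoh.depth (Z.presheaf.stalk z) (((pf i).obj F).presheaf.stalk z) := by
  by_cases h : z ∈ Set.range i
  · obtain ⟨x, rfl⟩ := h
    rw [depth_push]
    refine hd x hz ?_
    have h1 : ({x} : Set X) = i ⁻¹' {i x} := by
      ext y
      simp only [Set.mem_singleton_iff, Set.mem_preimage]
      exact ⟨fun h => by rw [h], fun h => i.isClosedEmbedding.injective h⟩
    rw [h1]
    exact hcl.preimage i.continuous
  · rw [depth_push_of_notMem i F z h]
    exact ENat.natCast_lt_top n

end Groth.Agent.Sga2lef.H503.PushDepth
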