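import Groth.Agent.Sga2lef.H503.PnEmb
import Groth.Agent.Sga2lef.H503.PnReg
import Groth.Agent.Sga2lef.H503.PairMap
import Groth.Agent.Sga2lef.H503.PushDepth
import Groth.Agent.Sga2.EszProj68
import Groth.Agent.Sga2.PnStalkDim
import Groth.Agent.CohqA.ProjDim
import Groth.Agent.CohqA.AffPush

/-!
# The key lemma for S3380

`key`: `X` proper over a field, `L` ample, `L ⊗ P ≅ O`, `s : O ⟶ L`: for `F` coherent with `depth F_x > n` at the closed
points of `X_s`, a power of `s` kills `H^i(X, F(-m))` for `m ≥ m₀`, `i ≤ n`.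
-/

set_option autoImplicit false
universe u
open CategoryTheory CategoryTheory.Limits AlgebraicGeometry Opposite TopologicalSpace

namespace Groth.Agent.Sga2lef.H503.KeyProof

open Groth.Agent.Fdesc.LocGen Groth.Agent.Sga2.EszSec Groth.Agent.Sga2.TwIt Groth.Agent.Sga2.NegSec
open Groth.Agent.Sga2lef.H503.EndGame Groth.Agent.Sga2lef.H503.HomExt Groth.Agent.Sga2lef.H503.RegNil
open Groth.Agent.Sga2lef.H503.PnSec Groth.Agent.Sga2lef.H503.PnEmb Groth.Agent.Sga2lef.H503.PnReg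
open Groth.Agent.Sga2lef.H503.PushIt Groth.Agent.Sga2lef.H503.PowIt Groth.Agent.Sga2lef.H503.PairMap
open Groth.Agent.Sga2lef.H503.PushDepth Groth.Agent.Sga2lef.H503.ItCalc
open Groth.Agent.Ega2

attribute [local instance] MvPolynomial.gradedAlgebra

/-- the regular situation on projective space -/
theorem exists_regData (k : Type u) [Field k] (r : ℕ) :
    ∃ θZ : CohB1.tensorMod (Twist.twistProjSpace r k 1) (Twist.twistProjSpace r k (-1)) ≅
      Coh.structureModule (CohB1.ProjSpace r k),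
      RegData (ofSec1 θZ (xs k (0 : Fin (r + 1)))) (CohB1.genLocus _ (xs k (0 : Fin (r + 1)))) r := by
  obtain ⟨θZ⟩ := Groth.Agent.Sga2.EszProj68.isInverseOf_twist k r
  refine ⟨θZ, ?_⟩
  have h1 : IsIntegral (CohB1.ProjSpace r k) := inferInstance
  have h2 : IsNoetherian (CohB1.ProjSpace r k) := Groth.Agent.CohqA.ProjDim.isNoetherian k r
  have hp : IsProper (CohB1.ProjSpace r k ↘ Spec (CommRingCat.of k)) :=
    Groth.Agent.VarietyB.ProjSpaceProper.isProper_toSpec r k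
  refine regData k (CohB1.ProjSpace r k) θZ (Groth.Agent.VarietyA.AmpleField.isAmple_twistProjSpace r k)
    (xs k (0 : Fin (r + 1))) (isAffineOpen_genLocus_xs k 0) ?_ r
    (fun z _ => Groth.Agent.Sga5.ProjReg.isRegularLocalRing_stalk r k z)
    (fun z hz => Groth.Agent.Sga2.PnStalkDim.ringKrullDim_stalk k r z hz)
  exact ⟨Groth.Agent.CohqA.ProjDim.gpt k r, (genLocus_xs k (0 : Fin (r + 1))).ge
    (show Groth.Agent.CohqA.ProjDim.gpt k r ∈ Proj.basicOpen (MvPolynomial.homogeneousSubmodule (Fin (r + 1)) k)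
      (MvPolynomial.X 0) from fun h => MvPolynomial.X_ne_zero (R := k) (0 : Fin (r + 1)) h)⟩

/-- **The key lemma.** -/
theorem key (k : Type u) [Field k] (X : Scheme.{u}) (f : X ⟶ Spec (CommRingCat.of k)) [IsProper f]
    (L : X.Modules) (hL : CohB1.IsAmple L) (s : Coh.structureModule X ⟶ L) (n : ℕ) (P : X.Modules)
    (hP : PicF.IsInvertible P) (θ : CohB1.tensorMod L P ≅ Coh.structureModule X) :
    Key hP (ofSec1 θ s) (PicF2.zeroScheme L s) n := by
  intro F hF hd
  obtain ⟨r, n₀, t, g, hgc, ht0, hg, hrat⟩ := exists_emb f hL s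
  obtain ⟨θZ, D⟩ := exists_regData k r
  have hN : IsNoetherian (CohB1.ProjSpace r k) := Groth.Agent.CohqA.ProjDim.isNoetherian k r
  have hpr : IsProper (CohB1.ProjSpace.toSpec r k) :=
    Groth.Agent.VarietyB.ProjSpaceProper.isProper_toSpec r k
  have hJ : JacobsonSpace (CohB1.ProjSpace r k) := by
    have := hpr.toLocallyOfFiniteType
    exact LocallyOfFiniteType.jacobsonSpace (CohB1.ProjSpace.toSpec r k)
  have hQ : PicF.IsInvertible (Twist.twistProjSpace r k (-1)) :=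
    (Groth.Agent.Dix.IdealModCartier.isInvertible_of_isInverseOf
      (Groth.Agent.Sga2.EszProj68.isInverseOf_twist k r)).2
  obtain ⟨P', hP', ⟨θ'⟩⟩ := Groth.Agent.Grpsch.PicGrp.exists_inverse (isInvertible_tensorPow hL.1 (n₀ + 1))
  have hgen : ∀ j, g ⁻¹ᵁ (CohB1.genLocus _ (xs k j)) ≤ CohB1.genLocus _ (t j) := fun j => (hg j).le
  obtain ⟨μ, hμ⟩ := exists_mu θ' g θZ (xs k) t (iSup_genLocus_xs k) hgen hrat
  have hμg := isGen_mu θ' g θZ (xs k) t (iSup_genLocus_xs k) hgen μ hμ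
  have hσ : ∀ (V : (CohB1.ProjSpace r k).Opens) (q : Γ(Twist.twistProjSpace r k (-1), V))
      (hq : Groth.Agent.Ega4dA.GenSec.IsGen (Twist.twistProjSpace r k (-1)) V q),
      (ofSec1 θ' (powHom s (n₀ + 1))).c (g ⁻¹ᵁ V) (ofP g (μ.app V q)) (hμg V q hq) =
        pb g ((ofSec1 θZ (xs k (0 : Fin (r + 1)))).c V q hq) := by
    intro V q hq
    have h := hμ V q 0
    rw [ht0] at h
    exact h
  have hU : g ⁻¹ᵁ (CohB1.genLocus _ (xs k (0 : Fin (r + 1)))) = CohB1.genLocus L s := by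
    rw [hg 0, ht0, genLocus_powHom hL.1]
  refine Nil.uniform fun j hj => ?_
  refine Nil.of_pow (genPow θ θ') (genPow_c θ θ' s) (Nat.succ_pos n₀) (hP' := hP') fun a _ => ?_
  refine Nil.of_push g μ hμg (hQ := hQ) (hσ := hσ) ?_
  have hIt : Coh.IsCoh ((It P a).obj F) := Groth.Agent.Sga2.StalkTw.isCoh_It hP hF a
  refine nil_of_depth D _ ⟨Groth.Agent.CohqA.AffPush.isQCoh_push g _ hIt.1,
    Groth.Agent.CohqA.AffPush.isFT_push g _ hIt.1 hIt.2⟩ n (lt_depth_push g _ _ n fun x hx hcl => ?_) j hj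
  rw [Groth.Agent.Sga2.StalkTw.depth_It P hP]
  refine hd x hcl ?_
  have hx' : x ∈ CohB1.genLocus L s := hU.le hx
  exact fun h => (Groth.Agent.Pi1C.ZeroScheme.mem_support_iff s hL.1 x).mp h hx'

end Groth.Agent.Sga2lef.H503.KeyProof
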