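import Groth.Agent.Ega2.VeryAmpleCrit
import Groth.Agent.VarietyB.Segre

/-!
# The coordinate sections of `O(1)` on `P^r_k`

* `xs j : O ⟶ O(1)`, `genLocus_xs : X_{x_j} = D_+(X_j)`, `sec_xs_eq : x_j = (X_j / X_i) x_i` over `D_+(X_i)`.
-/

set_option autoImplicit false
universe u
open CategoryTheory CategoryTheory.Limits AlgebraicGeometry TopologicalSpace Opposite
open Groth.Agent.Fdesc.LocGen
open Groth.Agent.VarietyB Groth.Agent.VarietyB.ProjGlue Groth.Agent.VarietyB.ProjStd Groth.Agent.VarietyB.Segre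
open Groth.Agent.Ega2

namespace Groth.Agent.Sga2lef.H503.PnSec

attribute [local instance] MvPolynomial.gradedAlgebra

variable {I : Type} (R : Type u) [CommRing R]

/-- The global section `X_i` of `O(1)`. -/
noncomputable def xg (i : I) : Γ(Twist.twist (MvPolynomial.homogeneousSubmodule I R) 1, ⊤) :=
  TwistBasic.fracSec (𝒜 := MvPolynomial.homogeneousSubmodule I R) 1
    (⟨MvPolynomial.X i, MvPolynomial.isHomogeneous_X R i⟩ : MvPolynomial.homogeneousSubmodule I R 1)
    (⟨1, SetLike.GradedOne.one_mem⟩ : MvPolynomial.homogeneousSubmodule I R 0) (by simp) _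
    (fun x _ => VeryAmpleCrit.one_notMem _ x)

/-- The global section `X_i` of `O(1)`, as a homomorphism. -/
noncomputable def xs (i : I) : Coh.structureModule (Proj (MvPolynomial.homogeneousSubmodule I R)) ⟶
    Twist.twist (MvPolynomial.homogeneousSubmodule I R) 1 := homOf (xg R i)

theorem sec_xs (i : I) : sec (xs R i) (Proj.basicOpen (MvPolynomial.homogeneousSubmodule I R) (MvPolynomial.X i)) =
    VeryAmpleCrit.gen R i := by
  rw [xs, sec_homOf]
  rfl

theorem sec_xs' (i j : I) :
    sec (xs R j) (Proj.basicOpen (MvPolynomial.homogeneousSubmodule I R) (MvPolynomial.X i)) =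
      ProjStd.ratio I R i j • VeryAmpleCrit.gen R i := by
  rw [xs, sec_homOf]
  refine Subtype.ext (funext fun x => Subtype.ext ?_)
  refine Eq.trans ?_ (TwistBasic.smulS_val (𝒜 := MvPolynomial.homogeneousSubmodule I R) 1
    (ProjStd.ratio I R i j) (VeryAmpleCrit.gen R i) x).symm
  have e1 := ProjStd.ratio_apply I R i j x
  refine Eq.trans ?_ (congrArg (fun z => z * Localization.mk (MvPolynomial.X i)
    (⟨1, VeryAmpleCrit.one_notMem (MvPolynomial.homogeneousSubmodule I R) x.1⟩ :
      x.1.asHomogeneousIdeal.toIdeal.primeCompl)) e1).symm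
  refine Eq.trans ?_ (Localization.mk_mul _ _ _ _).symm
  refine Localization.mk_eq_mk_iff.mpr ((Localization.r_iff_exists).mpr ⟨1, ?_⟩)
  simp
  ring

theorem sec_xs_eq (i j : I) :
    sec (xs R j) (Proj.basicOpen (MvPolynomial.homogeneousSubmodule I R) (MvPolynomial.X i)) =
      ProjStd.ratio I R i j •
        sec (xs R i) (Proj.basicOpen (MvPolynomial.homogeneousSubmodule I R) (MvPolynomial.X i)) := by
  rw [sec_xs', sec_xs]

theorem genLocus_xs (i : I) : CohB1.genLocus (Twist.twist (MvPolynomial.homogeneousSubmodule I R) 1) (xs R i) =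
    Proj.basicOpen (MvPolynomial.homogeneousSubmodule I R) (MvPolynomial.X i) := by
  apply le_antisymm
  · have h1 : ∀ j, CohB1.genLocus _ (xs R i) ⊓
        Proj.basicOpen (MvPolynomial.homogeneousSubmodule I R) (MvPolynomial.X j) ≤
        Proj.basicOpen (MvPolynomial.homogeneousSubmodule I R) (MvPolynomial.X i) := by
      intro j
      rw [genLocus_inf_eq (xs R i) (VeryAmpleCrit.isGen_gen (R := R) j) (sec_xs' R j i)]
      have h2 := (isClosedData_std (I := I) (R := R)).basicOpen j i
      change Scheme.basicOpen _ (ProjStd.ratio I R j i) = _ at h2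
      rw [h2]
      exact inf_le_right
    have h3 : CohB1.genLocus _ (xs R i) ≤ ⨆ j, CohB1.genLocus _ (xs R i) ⊓
        Proj.basicOpen (MvPolynomial.homogeneousSubmodule I R) (MvPolynomial.X j) := by
      rw [← inf_iSup_eq, CoordData.iSup_basicOpen_X, inf_top_eq]
    exact h3.trans (iSup_le h1)
  · rw [le_genLocus_iff, sec_xs]
    exact VeryAmpleCrit.isGen_gen i

theorem iSup_genLocus_xs : ⨆ i : I, CohB1.genLocus _ (xs R i) = ⊤ := by
  rw [← CoordData.iSup_basicOpen_X I R]
  exact iSup_congr fun i => genLocus_xs R i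

theorem isAffineOpen_genLocus_xs (i : I) : IsAffineOpen (CohB1.genLocus _ (xs R i)) := by
  rw [genLocus_xs]
  exact isAffineOpen_U I R i

end Groth.Agent.Sga2lef.H503.PnSec
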