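import Groth.Agent.Pi1C.LefEmb
import Groth.Agent.Sga2lef.H503.PnSec
import Groth.Agent.Sga2lef.H503.PushIt

/-!
# Projective embeddings adapted to a section of an ample module

`exists_emb`: `X` proper over `k`, `L` ample, `s : O ⟶ L`: a closed immersion `g : X ⟶ P^r_k` given by sections `t j` of
`L^(n₀+1)` with `t 0 = s^(n₀+1)`.
-/

set_option autoImplicit false
universe u
open CategoryTheory CategoryTheory.Limits AlgebraicGeometry TopologicalSpace Opposite
open Groth.Agent.Fdesc.LocGen
open Groth.Agent.VarietyB Groth.Agent.VarietyB.ProjGlue Groth.Agent.VarietyB.ProjStd Groth.Agent.VarietyB.Segre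
open Groth.Agent.Ega2

namespace Groth.Agent.Sga2lef.H503.PnEmb

open Groth.Agent.Pi1C Groth.Agent.Pi1C.LefEmb Groth.Agent.Sga2lef.H503.PnSec Groth.Agent.Sga2lef.H503.PushIt

attribute [local instance] MvPolynomial.gradedAlgebra

variable {X : Scheme.{u}} {k : Type u} [Field k]

theorem exists_sections (p : X ⟶ Spec (CommRingCat.of k)) [IsProper p] {L : X.Modules} (hL : CohB1.IsAmple L)
    (s : Coh.structureModule X ⟶ L) :
    ∃ (r n₀ : ℕ) (t' : Fin (r + 1) → (Coh.structureModule X ⟶ CohB1.tensorPow L (n₀ + 1)))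
      (hcov : ⨆ j, CohB1.genLocus _ (t' j) = ⊤),
      IsClosedData (PnMap.coordData t' hcov) p ∧ t' 0 = powHom s (n₀ + 1) := by
  classical
  have hinv := hL.1
  have hqs : QuasiSeparatedSpace X := quasiSeparatedSpace_of_quasiSeparated p
  have hft : ∀ U : X.Opens, IsAffineOpen U → ∃ S : Set Γ(X, U), S.Finite ∧
      Subring.closure (S ∪ Set.range (CoordData.baseHom p U)) = ⊤ := by
    intro U hU
    have h1 : (p.appLE ⊤ U le_top).hom.FiniteType :=
      LocallyOfFiniteType.finiteType_appLE p (isAffineOpen_top _) hU le_top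
    have h2 : (CoordData.baseHom p U).FiniteType := by
      have h3 : CoordData.baseHom p U = (p.appLE ⊤ U le_top).hom.comp
          (Scheme.ΓSpecIso (CommRingCat.of k)).inv.hom := by
        rw [CoordData.baseHom, ← RingHom.comp_assoc]
        rfl
      rw [h3]
      refine h1.comp (RingHom.FiniteType.of_surjective _ ?_)
      exact (Scheme.ΓSpecIso (CommRingCat.of k)).symm.commRingCatIsoToRingEquiv.surjective
    algebraize [CoordData.baseHom p U]
    obtain ⟨S, hS⟩ := (inferInstance : Algebra.FiniteType k Γ(X, U)).out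
    refine ⟨S, S.finite_toSet, ?_⟩
    have h3 := Algebra.adjoin_eq_ring_closure (R := k) (S : Set Γ(X, U))
    rw [hS, Set.union_comm] at h3
    exact h3.symm
  choose! C hCfin hCgen using hft
  obtain ⟨ι, hι, U, hUcov, hUaff, n₀, hn₀⟩ := AmpleSec.exists_ample_sections hL C hCfin
  choose v hv w hw using hn₀ (n₀ + 1) (Nat.le_succ _)
  have hfin : ∀ i, Finite (C (U i)) := fun i => (hCfin (U i) (hUaff i))
  let J := Option (Σ i : ι, Option (C (U i)))
  let t : J → (Coh.structureModule X ⟶ CohB1.tensorPow L (n₀ + 1)) := fun j =>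
    match j with
    | none => powHom s (n₀ + 1)
    | some ⟨i, none⟩ => v i
    | some ⟨i, some c⟩ => w i c c.2
  -- reindex
  obtain ⟨r, e, he⟩ : ∃ (r : ℕ) (e : J ≃ Fin (r + 1)), e none = 0 := by
    obtain ⟨N, ⟨e⟩⟩ := Finite.exists_equiv_fin J
    obtain ⟨r, rfl⟩ : ∃ n, N = n + 1 := by
      rcases N with _ | n
      · exact (IsEmpty.false (e none)).elim
      · exact ⟨n, rfl⟩
    exact ⟨r, e.trans (Equiv.swap (e none) 0), by simp⟩
  let t' : Fin (r + 1) → (Coh.structureModule X ⟶ CohB1.tensorPow L (n₀ + 1)) := fun j => t (e.symm j)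
  have hgl : ∀ i, CohB1.genLocus _ (t' (e (some ⟨i, none⟩))) = U i := by
    intro i
    change CohB1.genLocus _ (t (e.symm (e (some ⟨i, none⟩)))) = _
    rw [e.symm_apply_apply]
    exact hv i
  have hcov : ⨆ j, CohB1.genLocus _ (t' j) = ⊤ := by
    rw [eq_top_iff, ← hUcov]
    exact iSup_le fun i => le_iSup_of_le (f := fun j => CohB1.genLocus _ (t' j)) (e (some ⟨i, none⟩)) (hgl i).ge
  let D : CoordData X (Fin (r + 1)) := PnMap.coordData t' hcov
  have hDb : ∀ i k, X.basicOpen (D.f i k) = D.U i ⊓ D.U k := fun i k => PnMap.basicOpen_ratio t' i k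
  have hD : IsClosedData D p := by
    refine isClosedData_of_proper D p hDb (Set.range fun i : ι => e (some ⟨i, none⟩)) ?_ ?_ ?_
    · rw [eq_top_iff, ← hUcov]
      refine iSup_le fun i => le_iSup_of_le
        (f := fun j : (Set.range fun i : ι => e (some ⟨i, none⟩)) => D.U j) ⟨e (some ⟨i, none⟩), i, rfl⟩ ?_
      exact (hgl i).ge
    · rintro ⟨_, i, rfl⟩
      change IsAffineOpen (CohB1.genLocus _ (t' (e (some ⟨i, none⟩))))
      rw [hgl]
      exact hUaff i
    · rintro ⟨_, i, rfl⟩
      have hcl : Subring.closure ((D.hom p (e (some ⟨i, none⟩))).range : Set Γ(X, D.U (e (some ⟨i, none⟩)))) = ⊤ := by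
        refine VeryAmpleCrit.closure_eq_top_of_le (U := U i) (W := D.U (e (some ⟨i, none⟩))) (hgl i) _
          (hCgen (U i) (hUaff i)) _ ?_
        rintro a (ha | ⟨r, rfl⟩)
        · refine Subring.subset_closure ⟨MvPolynomial.X (e (some ⟨i, some ⟨a, ha⟩⟩)), ?_⟩
          rw [CoordData.hom_X]
          change PnMap.ratio t' _ _ = _
          apply (isGen_sec_genLocus (t' (e (some ⟨i, none⟩)))).ext
          rw [← PnMap.ratio_spec]
          have h1 : t' (e (some ⟨i, some ⟨a, ha⟩⟩)) = w i a ha := by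
            change t (e.symm (e (some ⟨i, some ⟨a, ha⟩⟩))) = _
            rw [e.symm_apply_apply]
          have h2 : t' (e (some ⟨i, none⟩)) = v i := by
            change t (e.symm (e (some ⟨i, none⟩))) = _
            rw [e.symm_apply_apply]
          have h3 := hw i a ha
          have h4 : CohB1.genLocus _ (t' (e (some ⟨i, none⟩))) ≤ U i := (hgl i).le
          have h5 := congrArg (fun z => sec z (CohB1.genLocus _ (t' (e (some ⟨i, none⟩))))) h1
          have h6 := congrArg (fun z => sec z (CohB1.genLocus _ (t' (e (some ⟨i, none⟩))))) h2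
          refine h5.trans (Eq.trans ?_ (congrArg (fun z => ores h4 a • z) h6).symm)
          rw [← res_sec (w i a ha) h4, h3, res_smul, res_sec]
        · refine Subring.subset_closure ⟨MvPolynomial.C r, ?_⟩
          have h2 : D.hom p (e (some ⟨i, none⟩)) (MvPolynomial.C r) =
              CoordData.baseHom p (D.U (e (some ⟨i, none⟩))) r := by
            simp only [CoordData.hom, MvPolynomial.eval₂Hom_C]
          rw [h2]
          exact (congr($(CoordData.baseHom_map p (hgl i).le) r)).symm
      rw [Subring.closure_eq] at hcl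
      intro y
      have hy : y ∈ (D.hom p (e (some ⟨i, none⟩))).range := by rw [hcl]; trivial
      exact hy
  have ht0 : t' 0 = powHom s (n₀ + 1) := by
    change t (e.symm 0) = _
    rw [← he, e.symm_apply_apply]
  exact ⟨r, n₀, t', hcov, hD, ht0⟩

/-- Projective embeddings adapted to a section of an ample module. -/
theorem exists_emb (p : X ⟶ Spec (CommRingCat.of k)) [IsProper p] {L : X.Modules} (hL : CohB1.IsAmple L)
    (s : Coh.structureModule X ⟶ L) :
    ∃ (r n₀ : ℕ) (t : Fin (r + 1) → (Coh.structureModule X ⟶ CohB1.tensorPow L (n₀ + 1)))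
      (g : X ⟶ Proj (MvPolynomial.homogeneousSubmodule (Fin (r + 1)) k)),
      IsClosedImmersion g ∧ t 0 = powHom s (n₀ + 1) ∧
      (∀ j, g ⁻¹ᵁ (CohB1.genLocus _ (xs k j)) = CohB1.genLocus _ (t j)) ∧
      (∀ (i j : Fin (r + 1)) (V : (Proj (MvPolynomial.homogeneousSubmodule (Fin (r + 1)) k)).Opens)
        (_ : V ≤ CohB1.genLocus _ (xs k i))
        (a : Γ(Proj (MvPolynomial.homogeneousSubmodule (Fin (r + 1)) k), V)),
        sec (xs k j) V = a • sec (xs k i) V →
        sec (t j) (g ⁻¹ᵁ V) = pb g a • sec (t i) (g ⁻¹ᵁ V)) := by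
  obtain ⟨r, n₀, t, hcov, hD, ht0⟩ := exists_sections p hL s
  let D : CoordData X (Fin (r + 1)) := PnMap.coordData t hcov
  let g := D.toProjSpace p
  have hg : ∀ j, g ⁻¹ᵁ (Proj.basicOpen (MvPolynomial.homogeneousSubmodule (Fin (r + 1)) k) (MvPolynomial.X j)) =
      CohB1.genLocus _ (t j) := fun j => D.preimage_basicOpen hD.basicOpen p j
  refine ⟨r, n₀, t, g, hD.isClosedImmersion, ht0, fun j => ?_, fun i j V hV a ha => ?_⟩
  · rw [genLocus_xs]; exact hg j
  · have hV' : V ≤ Proj.basicOpen (MvPolynomial.homogeneousSubmodule (Fin (r + 1)) k) (MvPolynomial.X i) := by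
      rwa [genLocus_xs] at hV
    have hgen : IsGen (sec (xs k i) V) := by
      have := (isGen_sec_genLocus (xs k i)).res hV
      rwa [res_sec] at this
    have h1 : sec (xs k j) V = ores hV' (ProjStd.ratio (Fin (r + 1)) k i j) • sec (xs k i) V := by
      have := congrArg (res _ hV') (sec_xs_eq k i j)
      rwa [res_smul, res_sec, res_sec] at this
    have h2 : a = ores hV' (ProjStd.ratio (Fin (r + 1)) k i j) := hgen.ext (ha.symm.trans h1)
    have hW : g ⁻¹ᵁ V ≤ CohB1.genLocus _ (t i) := by
      rw [← hg i]; exact g.preimage_mono hV'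
    rw [PnMap.ratio_spec_le t i j hW, h2]
    congr 1
    have h3 : PnMap.ratio t i j = g.appLE _ (CohB1.genLocus _ (t i)) (hg i).ge
      (ProjStd.ratio (Fin (r + 1)) k i j) := (PnMap.appLE_ratio D p i j (hg i).ge).symm
    rw [h3, VeryAmpleCrit.ores_appLE]
    have h4 : pb g (ores hV' (ProjStd.ratio (Fin (r + 1)) k i j)) =
        ores (g.preimage_mono hV') (g.app _ (ProjStd.ratio (Fin (r + 1)) k i j)) := pb_res g hV' _
    rw [h4, Scheme.Hom.app_eq_appLE, VeryAmpleCrit.ores_appLE]

end Groth.Agent.Sga2lef.H503.PnEmb
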