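import Groth.Agent.CohqB.HSeqMod
import Groth.Agent.CohqA.IdealMod
import Groth.Agent.CohqA.H1Lift
import Groth.Agent.Sga2.LefBasic
import Groth.Agent.PerfB.ModExact

/-!
# Pro-zero systems `H^i(X, 𝓘^m)` and the comparison `H^i(X, O) → lim H^i(X, O/𝓘^m)`

* `incl h : idealMod I ⟶ idealMod J` for `I ≤ J`;
* `of_proZero`: if the maps `H^i(𝓘^(m+b)) → H^i(𝓘^m)` are zero for `i ≤ n` and `m ≥ M`, then
  `H^i(X, O) → lim_m H^i(X, O/𝓘^(m+1))` is bijective (elementwise) for `i < n`.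
-/

set_option autoImplicit false
universe u
open CategoryTheory CategoryTheory.Limits AlgebraicGeometry Opposite TopologicalSpace

namespace Groth.Agent.Sga2lef.H503.ProZero

open Groth.Agent.CohqB.HSeqMod

variable {X : Scheme.{u}}

theorem toSubscheme_quotMap {I J : X.IdealSheafData} (h : I ≤ J) :
    ClSub.toSubscheme I ≫ Lef.quotMap h = ClSub.toSubscheme J := by
  ext V s
  change (Lef.quotMap h).app V ((ClSub.toSubscheme I).app V s) = (ClSub.toSubscheme J).app V s
  rw [Groth.Agent.Sga2.LefBasic.toSubscheme_app, Groth.Agent.Sga2.LefBasic.toSubscheme_app,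
    Groth.Agent.Sga2.LefBasic.quotMap_app]
  have h1 : J.subschemeι = Scheme.IdealSheafData.inclusion h ≫ I.subschemeι :=
    (Scheme.IdealSheafData.inclusion_subschemeι h).symm
  rw [Scheme.Hom.app_eq_appLE, Scheme.Hom.app_eq_appLE, ← CommRingCat.comp_apply,
    Scheme.Hom.appLE_comp_appLE]
  congr 2
  simp only [Scheme.IdealSheafData.inclusion_subschemeι]

/-- The inclusion of ideal modules. -/
noncomputable def incl {I J : X.IdealSheafData} (h : I ≤ J) : ClSub.idealMod I ⟶ ClSub.idealMod J :=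
  kernel.lift _ (ClSub.idealModι I) (by
    rw [← toSubscheme_quotMap h, ← Category.assoc]
    have : ClSub.idealModι I ≫ ClSub.toSubscheme I = 0 := kernel.condition _
    rw [this, zero_comp])

theorem incl_ι {I J : X.IdealSheafData} (h : I ≤ J) :
    incl h ≫ ClSub.idealModι J = ClSub.idealModι I := kernel.lift_ι _ _ _

/-- The short exact sequence `0 → I → O → O/I → 0`. -/
noncomputable def ses (I : X.IdealSheafData) : ShortComplex X.Modules :=
  ShortComplex.mk (ClSub.idealModι I) (ClSub.toSubscheme I) (kernel.condition _)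

theorem ses_shortExact (I : X.IdealSheafData) : (ses I).ShortExact where
  exact := ShortComplex.exact_of_f_is_kernel _ (kernelIsKernel _)
  mono_f := Groth.Agent.CohqA.IdealMod.mono_idealModι I
  epi_g := by
    have := Groth.Agent.CohqA.IdealMod.toSubscheme_locSurj I
    refine Groth.Agent.PerfB.ModExact.epi_of_locally_surjective _ fun U y x hx => ?_
    obtain ⟨V, hV, t, hxV, ht⟩ := this U y x hx
    exact ⟨V, hV, hxV, t, ht⟩

/-- The morphism of short exact sequences for `I ≤ J`. -/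
noncomputable def sesMap {I J : X.IdealSheafData} (h : I ≤ J) : ses I ⟶ ses J where
  τ₁ := incl h
  τ₂ := 𝟙 _
  τ₃ := Lef.quotMap h
  comm₁₂ := (incl_ι h).trans (Category.comp_id _).symm
  comm₂₃ := (Category.id_comp _).trans (toSubscheme_quotMap h).symm

theorem pow_le (𝓘 : X.IdealSheafData) (m b : ℕ) : 𝓘 ^ (m + b) ≤ 𝓘 ^ m := by
  rw [pow_add]
  exact mul_le_of_le_one_right' le_top

theorem quotMap_trans {I J K : X.IdealSheafData} (h : I ≤ J) (h' : J ≤ K) :
    Lef.quotMap h ≫ Lef.quotMap h' = Lef.quotMap (h.trans h') := by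
  have : Epi (ClSub.toSubscheme I) := (ses_shortExact I).epi_g
  rw [← cancel_epi (ClSub.toSubscheme I), ← Category.assoc, toSubscheme_quotMap, toSubscheme_quotMap,
    toSubscheme_quotMap]

theorem quotMap_refl {I : X.IdealSheafData} (h : I ≤ I) : Lef.quotMap h = 𝟙 _ := by
  have : Epi (ClSub.toSubscheme I) := (ses_shortExact I).epi_g
  rw [← cancel_epi (ClSub.toSubscheme I), toSubscheme_quotMap, Category.comp_id]

theorem of_proZero (𝓘 : X.IdealSheafData) (n : ℕ)
    (hz : ∃ M b : ℕ, ∀ m, M ≤ m → ∀ i ≤ n, ∀ x : Coh.HH X (ClSub.idealMod (𝓘 ^ (m + b))) i,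
      hmap (incl (pow_le 𝓘 m b)) i x = 0) (i : ℕ) (hi : i < n) :
    (∀ x : Coh.HH X (Coh.structureModule X) i,
      (∀ m : ℕ, hmap (ClSub.toSubscheme (𝓘 ^ (m + 1))) i x = 0) → x = 0) ∧
    (∀ y : (∀ m : ℕ, Coh.HH X (ClSub.quotMod (𝓘 ^ (m + 1))) i),
      (∀ m : ℕ, hmap (Lef.quotMap (Lef.pow_succ_le 𝓘 m)) i (y (m + 1)) = y m) →
      ∃ x : Coh.HH X (Coh.structureModule X) i,
        ∀ m : ℕ, hmap (ClSub.toSubscheme (𝓘 ^ (m + 1))) i x = y m) := by
  obtain ⟨M, b, hz⟩ := hz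
  -- the image of `H^j(𝓘^(m+b))` in `H^j(O)` is zero
  have hzι : ∀ m, M ≤ m → ∀ j ≤ n, ∀ x : Coh.HH X (ClSub.idealMod (𝓘 ^ (m + b))) j,
      hmap (ClSub.idealModι (𝓘 ^ (m + b))) j x = 0 := by
    intro m hm j hj x
    rw [← incl_ι (pow_le 𝓘 m b), hmap_comp_apply, hz m hm j hj x, map_zero]
  have hinj : ∀ m, M + b ≤ m → ∀ x : Coh.HH X (Coh.structureModule X) i,
      hmap (ClSub.toSubscheme (𝓘 ^ m)) i x = 0 → x = 0 := by
    intro m hm x hx
    obtain ⟨m', rfl⟩ := Nat.exists_eq_add_of_le' (Nat.le_of_add_left_le hm : b ≤ m)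
    obtain ⟨y, rfl⟩ := exact₂ (ses_shortExact (𝓘 ^ (m' + b))) i x hx
    exact hzι m' (by omega) i hi.le y
  refine ⟨fun x hx => hinj (M + b + 1) (by omega) x (hx (M + b)), fun y hy => ?_⟩
  -- compatibility over several steps
  have hy' : ∀ m c : ℕ, hmap (Lef.quotMap (show 𝓘 ^ (m + c + 1) ≤ 𝓘 ^ (m + 1) by
      have := pow_le 𝓘 (m + 1) c
      rwa [show m + 1 + c = m + c + 1 by ring] at this)) i (y (m + c)) = y m := by
    intro m c
    induction c with
    | zero =>
      rw [quotMap_refl]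
      exact hmap_id_apply i _
    | succ c ih =>
      rw [← quotMap_trans (Lef.pow_succ_le 𝓘 (m + c)) (by
        have := pow_le 𝓘 (m + 1) c
        rwa [show m + 1 + c = m + c + 1 by ring] at this), hmap_comp_apply]
      have := hy (m + c)
      exact (congrArg _ this).trans ih
  -- `δ (y m) = 0` for `m ≥ M`
  have hδ : ∀ m, M ≤ m → δ (ses_shortExact (𝓘 ^ (m + 1))) i (y m) = 0 := by
    intro m hm
    have hle : 𝓘 ^ (m + b + 1) ≤ 𝓘 ^ (m + 1) := by
      have := pow_le 𝓘 (m + 1) b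
      rwa [show m + 1 + b = m + b + 1 by ring] at this
    have h1 := δ_naturality (ses_shortExact (𝓘 ^ (m + b + 1))) (ses_shortExact (𝓘 ^ (m + 1)))
      (sesMap hle) i (y (m + b))
    have h2 : hmap (sesMap hle).τ₃ i (y (m + b)) = y m := hy' m b
    rw [h2] at h1
    rw [h1]
    have h3 : ∀ (N : ℕ) (hN : N = m + 1 + b) (hle' : 𝓘 ^ N ≤ 𝓘 ^ (m + 1))
        (x : Coh.HH X (ClSub.idealMod (𝓘 ^ N)) (i + 1)), hmap (incl hle') (i + 1) x = 0 := by
      rintro N rfl hle' x
      exact hz (m + 1) (by omega) (i + 1) hi x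
    exact h3 (m + b + 1) (by ring) hle _
  have hlift : ∀ m, M ≤ m → ∃ x : Coh.HH X (Coh.structureModule X) i,
      hmap (ClSub.toSubscheme (𝓘 ^ (m + 1))) i x = y m :=
    fun m hm => exact₃ (ses_shortExact (𝓘 ^ (m + 1))) i (y m) (hδ m hm)
  obtain ⟨x, hx⟩ := hlift (M + b) (by omega)
  refine ⟨x, fun m => ?_⟩
  rcases le_total (M + b) m with hm | hm
  · obtain ⟨x', hx'⟩ := hlift m (by omega)
    obtain ⟨c, rfl⟩ := Nat.exists_eq_add_of_le hm
    have : x' - x = 0 := by
      refine hinj (M + b + 1) (by omega) _ ?_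
      rw [map_sub, hx, ← toSubscheme_quotMap (show 𝓘 ^ (M + b + c + 1) ≤ 𝓘 ^ (M + b + 1) by
        have := pow_le 𝓘 (M + b + 1) c
        rwa [show M + b + 1 + c = M + b + c + 1 by ring] at this), hmap_comp_apply, hx', hy',
        sub_self]
    rw [← sub_eq_zero.mp this, hx']
  · obtain ⟨c, hc⟩ := Nat.exists_eq_add_of_le hm
    have h3 : ∀ (N : ℕ) (hN : N = m + c) (x : Coh.HH X (Coh.structureModule X) i)
        (_ : hmap (ClSub.toSubscheme (𝓘 ^ (N + 1))) i x = y N),
        hmap (ClSub.toSubscheme (𝓘 ^ (m + 1))) i x = y m := by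
      rintro N rfl x hx
      rw [← toSubscheme_quotMap (show 𝓘 ^ (m + c + 1) ≤ 𝓘 ^ (m + 1) by
        have := pow_le 𝓘 (m + 1) c
        rwa [show m + 1 + c = m + c + 1 by ring] at this), hmap_comp_apply, hx, hy']
    exact h3 _ hc x hx

end Groth.Agent.Sga2lef.H503.ProZero
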