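import Groth.Agent.Sga2lef.H503.HomExt
import Groth.Agent.CalgA.RegAB
import Groth.Agent.Divis.StalkMod
import Groth.Agent.CycB.StalkExact
import Groth.Agent.Ega4A.RegCM
import Groth.Agent.FormalB.QcSect
import Groth.Agent.CycB.CohProp
import Mathlib.AlgebraicGeometry.Morphisms.FiniteType

/-!
# Nilpotence of a section on the cohomology of negative twists, on regular schemes

`Z` an integral scheme of finite type over a field, all closed points regular of dimension `N`, `σ` a section with affine
non-vanishing locus `U`.  `M` coherent with `depth M_z > n` at the closed points `z ∈ U`.  Then `σ^b` kills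
`H^i(Z, M(-m))`, `m ≥ m₀`, `i ≤ n` (`nil_of_depth`).
-/

set_option autoImplicit false
universe u
open CategoryTheory CategoryTheory.Limits AlgebraicGeometry Opposite TopologicalSpace

namespace Groth.Agent.Sga2lef.H503.RegNil

open Groth.Agent.Ega4dA.GenSec (res resO IsGen res_self res_res res_smul res_add res_sub res_zero app_res eq_of_locally
  exists_glue isInvertible_iff resO_resO resO_mul resO_zero eqO_of_locally)
open Groth.Agent.Sga2.TwIt Groth.Agent.Sga2.NegSec
open Groth.Agent.Sga2lef.H503.TwistIdeal Groth.Agent.Sga2lef.H503.ItCalc Groth.Agent.Sga2lef.H503.HomExt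
open Groth.Agent.CohqB.HomSheaf (homSheaf comp)
open Groth.Agent.CycB.StalkExact Groth.Agent.Fdesc.QCohStalk

section Alg

/-- The depth of `R^r` is at least the depth of `R`. -/
theorem le_depth_pi (R : Type u) [CommRing R] [IsLocalRing R] [IsNoetherianRing R] (r : ℕ) :
    LocCoh.depth R R ≤ LocCoh.depth R (Fin r → R) := by
  induction r with
  | zero =>
    have : Subsingleton (Fin 0 → R) := inferInstance
    rw [show LocCoh.depth R (Fin 0 → R) = ⊤ from
      Groth.Agent.Localalg.Depth.idealDepth_eq_top_of_subsingleton _ _]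
    exact le_top
  | succ r ih =>
    have h1 := Groth.Agent.Localalg.Depth.idealDepth_shortExact₂ (IsLocalRing.maximalIdeal R)
      (LinearMap.inl R R (Fin r → R)) (LinearMap.snd R R (Fin r → R)) LinearMap.inl_injective
      LinearMap.snd_surjective (Function.Exact.inl_snd)
    have h2 : LocCoh.depth R (R × (Fin r → R)) = LocCoh.depth R (Fin (r + 1) → R) :=
      Groth.Agent.Localalg.Depth.idealDepth_congr_equiv _ (Fin.consLinearEquiv R (fun _ : Fin (r + 1) => R))
    rw [← h2]
    exact (le_min le_rfl ih).trans h1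

theorem le_depth_free (R : Type u) [CommRing R] [IsLocalRing R] [IsNoetherianRing R] (M : Type u) [AddCommGroup M]
    [Module R M] [Module.Finite R M] [Module.Free R M] : LocCoh.depth R R ≤ LocCoh.depth R M := by
  refine (le_depth_pi R (Module.finrank R M)).trans (le_of_eq ?_)
  exact Groth.Agent.Localalg.Depth.idealDepth_congr_equiv _ (Module.finBasis R M).equivFun.symm

end Alg

section ProjLoc

set_option backward.defeqAttrib.useBackward true in
set_option backward.isDefEq.respectTransparency false in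
attribute [local instance] RingHomInvPair.of_ringEquiv RingHomInvPair.of_ringEquiv_symm in
/-- projectivity of a localization does not depend on the model -/
theorem proj_loc {R M : Type*} [CommRing R] [AddCommGroup M] [Module R M] (I : Ideal R) [I.IsMaximal]
    (Rp : Type*) [CommRing Rp] [Algebra R Rp] [IsLocalization.AtPrime Rp I] (Mp : Type*) [AddCommGroup Mp]
    [Module R Mp] [Module Rp Mp] [IsScalarTower R Rp Mp] (f : M →ₗ[R] Mp) [IsLocalizedModule I.primeCompl f]
    (H : Module.Projective Rp Mp) :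
    Module.Projective (Localization.AtPrime I) (LocalizedModule I.primeCompl M) := by
  set e := (IsLocalization.algEquiv I.primeCompl Rp (Localization.AtPrime I)).toRingEquiv
  refine Module.Projective.of_equiv (M := Mp) (R := Rp)
    (σ := e)
    { __ := IsLocalizedModule.linearEquiv I.primeCompl f
        (LocalizedModule.mkLinearMap I.primeCompl M)
      map_smul' := ?_ }
  · intro r m
    obtain ⟨r, s, rfl⟩ := IsLocalization.exists_mk'_eq I.primeCompl r
    apply ((Module.End.isUnit_iff _).mp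
      (IsLocalizedModule.map_units (LocalizedModule.mkLinearMap I.primeCompl M) s)).1
    dsimp [e]
    simp only [← map_smul, ← smul_assoc, IsLocalization.smul_mk'_self, algebraMap_smul,
      IsLocalization.map_id_mk']

end ProjLoc

section Stalks

variable {Z : Scheme.{u}} [IsLocallyNoetherian Z]

omit [IsLocallyNoetherian Z] in
theorem finite_stalk' {M : Z.Modules} (hM : Coh.IsCoh M) (x : Z) :
    Module.Finite (Z.presheaf.stalk x) (M.presheaf.stalk x) := Groth.Agent.CycB.CohStalk.finite_stalk M hM x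

/-- depth of a kernel -/
theorem le_depth_kernel {S : ShortComplex Z.Modules} (hS : S.ShortExact) (h1 : Coh.IsCoh S.X₁) (h2 : Coh.IsCoh S.X₂)
    (h3 : Coh.IsCoh S.X₃) (x : Z) (d : ℕ)
    (hd2 : ((d + 1 : ℕ) : ℕ∞) ≤ LocCoh.depth (Z.presheaf.stalk x) (S.X₂.presheaf.stalk x))
    (hd3 : (d : ℕ∞) ≤ LocCoh.depth (Z.presheaf.stalk x) (S.X₃.presheaf.stalk x)) :
    ((d + 1 : ℕ) : ℕ∞) ≤ LocCoh.depth (Z.presheaf.stalk x) (S.X₁.presheaf.stalk x) := by
  obtain ⟨i, e, s⟩ := stalkLin_shortExact S hS x
  have := finite_stalk' h1 x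
  have := finite_stalk' h2 x
  have := finite_stalk' h3 x
  have h := Groth.Agent.Localalg.Depth.idealDepth_shortExact₁ (IsLocalRing.maximalIdeal (Z.presheaf.stalk x))
    (stalkLin S.f x) (stalkLin S.g x) i s e
  refine le_trans (le_min hd2 ?_) h
  push_cast
  exact add_le_add_left hd3 1

/-- maximal depth implies free -/
theorem free_stalk {M : Z.Modules} (hM : Coh.IsCoh M) (x : Z) [IsRegularLocalRing (Z.presheaf.stalk x)] {N : ℕ}
    (hN : ringKrullDim (Z.presheaf.stalk x) = N)
    (h : (N : ℕ∞) ≤ LocCoh.depth (Z.presheaf.stalk x) (M.presheaf.stalk x)) :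
    Module.Free (Z.presheaf.stalk x) (M.presheaf.stalk x) := by
  have := finite_stalk' hM x
  rcases subsingleton_or_nontrivial (M.presheaf.stalk x) with h0 | h0
  · infer_instance
  · refine Groth.Agent.CalgA.RegAB.free_of_depth_eq _ _ (le_antisymm ?_ ?_)
    · exact (Groth.Agent.Localalg.Depth2.depth_le_supportDim (R := Z.presheaf.stalk x) (M.presheaf.stalk x)).trans
        (Module.supportDim_le_ringKrullDim _ _)
    · rw [hN]
      exact_mod_cast h

/-- Depth larger than the dimension: the stalk is zero. -/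
theorem subsingleton_stalk {M : Z.Modules} (hM : Coh.IsCoh M) (x : Z) {N : ℕ}
    (hN : ringKrullDim (Z.presheaf.stalk x) = N)
    (h : (N : ℕ∞) < LocCoh.depth (Z.presheaf.stalk x) (M.presheaf.stalk x)) :
    Subsingleton (M.presheaf.stalk x) := by
  have := finite_stalk' hM x
  by_contra h0
  rw [not_subsingleton_iff_nontrivial] at h0
  have h1 := (Groth.Agent.Localalg.Depth2.depth_le_supportDim (R := Z.presheaf.stalk x) (M.presheaf.stalk x)).trans
        (Module.supportDim_le_ringKrullDim _ _)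
  rw [hN] at h1
  have h2 : LocCoh.depth (Z.presheaf.stalk x) (M.presheaf.stalk x) ≤ (N : ℕ∞) := by exact_mod_cast h1
  exact absurd h2 (not_le.mpr h)

/-- The depth of a finite locally free module at a regular point. -/
theorem le_depth_flf {E : Z.Modules} (hE : Coh.IsCoh E) (hf : FlatMod.IsFinLocFree E) (x : Z)
    [IsRegularLocalRing (Z.presheaf.stalk x)] {N : ℕ} (hN : ringKrullDim (Z.presheaf.stalk x) = N) :
    (N : ℕ∞) ≤ LocCoh.depth (Z.presheaf.stalk x) (E.presheaf.stalk x) := by
  obtain ⟨h1, h2⟩ := Groth.Agent.Divis.StalkMod.finite_free_stalk hE.1 hf x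
  refine le_trans ?_ (le_depth_free (Z.presheaf.stalk x) (E.presheaf.stalk x))
  have h := Groth.Agent.Ega4A.RegCM.isCohenMacaulayLocalRing_of_isRegularLocalRing (Z.presheaf.stalk x)
  have h3 := h.supportDim_eq_depth
  rw [Module.supportDim_self_eq_ringKrullDim, hN] at h3
  have h4 : ((N : ℕ∞) : WithBot ℕ∞) = ((LocCoh.depth (Z.presheaf.stalk x) (Z.presheaf.stalk x) : ℕ∞) : WithBot ℕ∞) := h3
  exact (WithBot.coe_inj.mp h4).le

end Stalks

section Proj

variable {Z : Scheme.{u}} [IsLocallyNoetherian Z] {K E : Z.Modules} {U : Z.Opens}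

/-- A coherent module with free stalks at the closed points of an affine open has projective sections. -/
theorem projective_sections [JacobsonSpace Z] (hU : IsAffineOpen U) (hK : Coh.IsCoh K)
    (h : ∀ x ∈ U, IsClosed ({x} : Set Z) → Module.Free (Z.presheaf.stalk x) (K.presheaf.stalk x)) :
    Module.Projective Γ(Z, U) Γ(K, U) := by
  have : IsNoetherianRing Γ(Z, U) := IsLocallyNoetherian.component_noetherian ⟨U, hU⟩
  have hfin := finite_sections hK hU
  have hfp : Module.FinitePresentation Γ(Z, U) Γ(K, U) := Module.finitePresentation_of_finite _ _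
  refine Module.projective_of_localization_maximal fun I hI => ?_
  let q : Spec Γ(Z, U) := (⟨I, hI.isPrime⟩ : PrimeSpectrum Γ(Z, U))
  have hx : hU.fromSpec q ∈ U := by
    have h2 : hU.fromSpec q ∈ hU.fromSpec.opensRange := ⟨q, rfl⟩
    rwa [hU.opensRange_fromSpec] at h2
  have hp : (hU.primeIdealOf ⟨hU.fromSpec q, hx⟩) = q :=
    hU.fromSpec.isOpenEmbedding.injective (hU.fromSpec_primeIdealOf _)
  have hcl : IsClosed ({hU.fromSpec q} : Set Z) := by
    apply isClosed_singleton_of_isLocallyClosed_singleton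
    rw [← Set.image_singleton]
    have hc : IsClosed ({q} : Set (Spec Γ(Z, U))) :=
      (PrimeSpectrum.isClosed_singleton_iff_isMaximal _).mpr hI
    exact hc.isLocallyClosed.image hU.fromSpec.isOpenEmbedding.isInducing
      hU.fromSpec.isOpenEmbedding.isOpen_range.isLocallyClosed
  have hfree := h _ hx hcl
  let i1 : Algebra Γ(Z, U) (Z.presheaf.stalk (hU.fromSpec q)) := (Z.presheaf.germ U _ hx).hom.toAlgebra
  let i3 : Module Γ(Z, U) (K.presheaf.stalk (hU.fromSpec q)) := stalkModule K _ hx
  have i6 : IsScalarTower Γ(Z, U) (Z.presheaf.stalk (hU.fromSpec q)) (K.presheaf.stalk (hU.fromSpec q)) :=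
    IsScalarTower.of_algebraMap_smul fun _ _ => rfl
  have hpI : (hU.primeIdealOf ⟨hU.fromSpec q, hx⟩).asIdeal = I := by rw [hp]
  have i2 : IsLocalization.AtPrime (Z.presheaf.stalk (hU.fromSpec q)) (hU.primeIdealOf ⟨hU.fromSpec q, hx⟩).asIdeal :=
    hU.isLocalization_stalk ⟨hU.fromSpec q, hx⟩
  have i9 : IsLocalizedModule (hU.primeIdealOf ⟨hU.fromSpec q, hx⟩).asIdeal.primeCompl (germₗ K _ hx) :=
    isLocalizedModule_germ K hU hK.1 _ hx
  have key : ∀ (J : Ideal Γ(Z, U)) [J.IsPrime] (_ : J = I) (_ : IsLocalization.AtPrime (Z.presheaf.stalk (hU.fromSpec q)) J)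
      (_ : IsLocalizedModule J.primeCompl (germₗ K (hU.fromSpec q) hx)),
      Module.Projective (Localization.AtPrime I) (LocalizedModule I.primeCompl Γ(K, U)) := by
    rintro J hJ rfl j1 j2
    exact proj_loc J (Z.presheaf.stalk (hU.fromSpec q)) (K.presheaf.stalk (hU.fromSpec q)) (germₗ K _ hx) inferInstance
  exact key _ hpI i2 i9

omit [IsLocallyNoetherian Z] in
/-- A section over an affine open of an epimorphism onto a module with projective sections. -/
theorem exists_section (hU : IsAffineOpen U) (hK : Coh.IsQCoh K) (hE : Coh.IsQCoh E)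
    (hproj : Module.Projective Γ(Z, U) Γ(K, U)) (g : E ⟶ K) [Epi g] :
    ∃ t : Γ(homSheaf K E, U), ∀ (V : Z.Opens) (hV : V ≤ U) (a : Γ(K, V)), g.app V (comp t V hV a) = a := by
  have : K.IsQuasicoherent := hK
  have : E.IsQuasicoherent := hE
  let gl : Γ(E, U) →ₗ[Γ(Z, U)] Γ(K, U) :=
    { toFun := g.app U
      map_add' := map_add _
      map_smul' := fun r s => g.app_smul r s }
  have hsurj : Function.Surjective gl := Groth.Agent.FormalB.QcSect.surjective_app_of_epi g hU
  obtain ⟨s₀, hs₀⟩ := Module.projective_lifting_property gl LinearMap.id hsurj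
  let t := (Groth.Agent.CohqB.HomSheaf.affineEquiv (N := E) hK hU).symm s₀
  have ht : comp t U le_rfl = s₀ := Groth.Agent.CohqB.HomSheaf.comp_affineEquiv_symm hK hU s₀
  let t' : Γ(homSheaf K K, U) := Groth.Agent.CohqB.HomSheaf.mkSec
    (fun V hV =>
      { toFun := fun a => g.app V (comp t V hV a)
        map_add' := fun a b => by rw [map_add, map_add]
        map_smul' := fun r a => by
          rw [_root_.map_smul, Scheme.Modules.Hom.app_smul]; rfl })
    (fun V W hV h m => by
      change g.app W (comp t W _ _) = _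
      rw [Groth.Agent.CohqB.HomSheaf.comp_map t hV h m]
      exact app_res g h _)
  have h1 : t' = Groth.Agent.CohqB.HomSheaf.ofHom (𝟙 K) U := by
    refine Groth.Agent.CohqB.HomSheaf.comp_injective hK hU fun m => ?_
    change g.app U (comp t U le_rfl m) = m
    rw [ht]
    exact congrArg (fun f => f m) hs₀
  refine ⟨t, fun V hV a => ?_⟩
  have h2 : comp t' V hV a = comp (Groth.Agent.CohqB.HomSheaf.ofHom (𝟙 K) U) V hV a := by rw [h1]
  exact h2

end Proj

section Torsion

variable {Z : Scheme.{u}} {P : Z.Modules}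

/-- Finite locally free modules on an integral scheme have no `σ`-torsion, `σ ≠ 0`. -/
theorem tf_of_flf [IsIntegral Z] {σ : Sec P 1} {U : Z.Opens} (hU : IsLocus σ U)
    (hne : (U : Set Z).Nonempty) {E : Z.Modules} (hE : Coh.IsQCoh E) (hf : FlatMod.IsFinLocFree E) : TF σ E := by
  intro V p hp y hy
  refine eq_of_locally _ fun x hx => ?_
  obtain ⟨h1, h2⟩ := Groth.Agent.Divis.StalkMod.finite_free_stalk hE hf x
  -- the germ of `c` is nonzero
  have hc : Z.presheaf.germ V x hx (σ.c V p hp) ≠ 0 := by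
    intro h0
    have h0' : Z.presheaf.germ V x hx (σ.c V p hp) = Z.presheaf.germ V x hx 0 := h0.trans (map_zero _).symm
    obtain ⟨W, hxW, i, i', hW⟩ := Z.presheaf.germ_eq x hx hx _ _ h0'
    have h3 : σ.c W (res P i.le p) (hp.mono i.le) = 0 := by
      rw [← σ.res_c V W i.le p hp]
      exact hW.trans (map_zero _)
    have h4 := hU W (res P i.le p) (hp.mono i.le)
    rw [h3, Scheme.basicOpen_zero] at h4
    have h5 : ((W : Set Z) ∩ (U : Set Z)).Nonempty :=
      nonempty_preirreducible_inter W.2 U.2 ⟨x, hxW⟩ hne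
    obtain ⟨w, hw⟩ := h5
    have : w ∈ W ⊓ U := hw
    rw [h4] at this
    exact this
  have h6 : Z.presheaf.germ V x hx (σ.c V p hp) • E.presheaf.germ V x hx y = 0 := by
    rw [← germ_smul', hy, map_zero]
  have h7 : E.presheaf.germ V x hx y = 0 := by
    rcases smul_eq_zero.mp h6 with h | h
    · exact absurd h hc
    · exact h
  have h7' : E.presheaf.germ V x hx y = E.presheaf.germ V x hx 0 := h7.trans (map_zero _).symm
  obtain ⟨W, hxW, i, i', hW⟩ := E.presheaf.germ_eq x hx hx _ _ h7'
  exact ⟨W, i.le, hxW, hW⟩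

end Torsion

section Main

variable {Z : Scheme.{u}} {P : Z.Modules}

/-- The hypotheses on the ambient regular scheme. -/
structure RegData (σ : Sec P 1) (U : Z.Opens) (N : ℕ) : Prop where
  locus : IsLocus σ U
  aff : IsAffineOpen U
  reg : ∀ z : Z, IsClosed ({z} : Set Z) → IsRegularLocalRing (Z.presheaf.stalk z)
  dim : ∀ z : Z, IsClosed ({z} : Set Z) → ringKrullDim (Z.presheaf.stalk z) = N
  res : ∀ M : Z.Modules, Coh.IsCoh M → ∃ (E : Z.Modules) (g : E ⟶ M), Epi g ∧ Coh.IsCoh E ∧ FlatMod.IsFinLocFree E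
  van : ∀ E : Z.Modules, Coh.IsCoh E → FlatMod.IsFinLocFree E →
    ∃ m₀ : ℕ, ∀ m, m₀ ≤ m → ∀ i < N, Subsingleton (Coh.HH Z ((It P m).obj E) i)
  tf : ∀ E : Z.Modules, Coh.IsCoh E → FlatMod.IsFinLocFree E → TF σ E

variable {hP : PicF.IsInvertible P} {σ : Sec P 1} {U : Z.Opens} {N : ℕ}

/-- The case of modules locally free on `U`. -/
theorem nil_of_free [IsNoetherian Z] [JacobsonSpace Z] (D : RegData σ U N) {K : Z.Modules} (hK : Coh.IsCoh K)
    (h : ∀ x ∈ U, IsClosed ({x} : Set Z) → Module.Free (Z.presheaf.stalk x) (K.presheaf.stalk x)) (j : ℕ)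
    (hj : j < N) : Nil hP σ K j := by
  obtain ⟨E, g, hg, hE, hEf⟩ := D.res K hK
  obtain ⟨t, ht⟩ := exists_section D.aff hK.1 hE.1 (projective_sections D.aff hK h) g
  obtain ⟨b, ψ, hψ⟩ := exists_factor hP D.locus t hK hE.1 (D.tf E hE hEf) g ht
  obtain ⟨m₀, hm₀⟩ := D.van E hE hEf
  exact Nil.of_factor ψ g hψ ⟨m₀, fun m hm => hm₀ m hm j hj⟩

theorem nil_of_depth_aux [IsNoetherian Z] [JacobsonSpace Z] (D : RegData σ U N) (c : ℕ) :
    ∀ (M : Z.Modules) (_ : Coh.IsCoh M) (_ : ∀ x ∈ U, IsClosed ({x} : Set Z) →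
      ((N - c : ℕ) : ℕ∞) ≤ LocCoh.depth (Z.presheaf.stalk x) (M.presheaf.stalk x)) (j : ℕ) (_ : j + c < N),
      Nil hP σ M j := by
  induction c with
  | zero =>
    intro M hM hd j hj
    refine nil_of_free D hM (fun x hx hcl => ?_) j hj
    have := D.reg x hcl
    exact free_stalk hM x (D.dim x hcl) (hd x hx hcl)
  | succ c ih =>
    intro M hM hd j hj
    obtain ⟨E, g, hg, hE, hEf⟩ := D.res M hM
    have hKer : Coh.IsCoh (kernel g) := Groth.Agent.CycB.CohProp.isCoh_kernel g hE hM
    have hS : (ShortComplex.mk (kernel.ι g) g (kernel.condition g)).ShortExact :=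
      ShortComplex.ShortExact.mk (ShortComplex.exact_kernel g)
    obtain ⟨m₀, hm₀⟩ := D.van E hE hEf
    refine Nil.three hS (ih _ hKer (fun x hx hcl => ?_) (j + 1) (by omega))
      (Nil.of_subsingleton ⟨m₀, fun m hm => hm₀ m hm j (by omega)⟩)
    have := D.reg x hcl
    have h1 := le_depth_flf hE hEf x (D.dim x hcl)
    have h2 := le_depth_kernel hS hKer hE hM x (N - (c + 1)) (le_trans (by exact_mod_cast (by omega)) h1)
      (hd x hx hcl)
    rwa [show N - (c + 1) + 1 = N - c by omega] at h2

/-- A coherent module with zero stalks at the closed points of `U` is killed by a power of `σ`. -/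
theorem exists_pow_eq_zero [IsNoetherian Z] [JacobsonSpace Z] (hU : IsLocus σ U) {M : Z.Modules} (hM : Coh.IsCoh M)
    (h : ∀ x ∈ U, IsClosed ({x} : Set Z) → Subsingleton (M.presheaf.stalk x)) :
    ∃ e : ℕ, (powS σ e).hom hP M = 0 := by
  obtain ⟨e, he⟩ := exists_pow_hom_comp_eq_zero hP hU hM hM.1 (𝟙 M) (by
    intro V hV a
    change a = 0
    -- the set of points where the germ of `a` vanishes is open and contains the closed points
    by_contra ha
    have h1 : ∃ x ∈ V, ∀ (W : Z.Opens) (hW : W ≤ V), x ∈ W → res M hW a ≠ 0 := by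
      by_contra hcon
      push Not at hcon
      exact ha (eq_of_locally _ fun x hx => by
        obtain ⟨W, hW, hxW, h0⟩ := hcon x hx
        exact ⟨W, hW, hxW, by rw [h0, res_zero]⟩)
    obtain ⟨x, hxV, hx⟩ := h1
    -- the bad set is closed in `V`
    let T : Set Z := {x | ∃ (W : Z.Opens) (hW : W ≤ V), x ∈ W ∧ res M hW a = 0}
    have hT : IsOpen T := by
      rw [isOpen_iff_forall_mem_open]
      rintro y ⟨W, hW, hyW, h0⟩
      exact ⟨W, fun z hz => ⟨W, hW, hz, h0⟩, W.2, hyW⟩
    have hne : ((V : Set Z) ∩ Tᶜ).Nonempty := ⟨x, hxV, fun ⟨W, hW, hxW, h0⟩ => hx W hW hxW h0⟩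
    obtain ⟨y, ⟨hyV, hyT⟩, hyc⟩ := nonempty_inter_closedPoints hne
      (V.2.isLocallyClosed.inter hT.isClosed_compl.isLocallyClosed)
    have := h y (hV hyV) hyc
    have h2 : M.presheaf.germ V y hyV a = M.presheaf.germ V y hyV 0 := Subsingleton.elim _ _
    obtain ⟨W, hyW, i, i', hW⟩ := M.presheaf.germ_eq y hyV hyV _ _ h2
    exact hyT ⟨W, i.le, hyW, hW.trans (map_zero _)⟩)
  exact ⟨e, by rw [Category.comp_id] at he; exact he⟩

/-- **Relative Enriques–Severi–Zariski on a regular scheme.** -/
theorem nil_of_depth [IsNoetherian Z] [JacobsonSpace Z] (D : RegData σ U N) (M : Z.Modules) (hM : Coh.IsCoh M) (n : ℕ)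
    (hd : ∀ x ∈ U, IsClosed ({x} : Set Z) →
      (n : ℕ∞) < LocCoh.depth (Z.presheaf.stalk x) (M.presheaf.stalk x)) (i : ℕ) (hi : i ≤ n) :
    Nil hP σ M i := by
  rcases Nat.lt_or_ge n N with hn | hn
  · refine nil_of_depth_aux D (N - (n + 1)) M hM (fun x hx hcl => ?_) i (by omega)
    rw [show N - (N - (n + 1)) = n + 1 by omega]
    have := Order.add_one_le_of_lt (hd x hx hcl)
    exact_mod_cast this
  · obtain ⟨e, he⟩ := exists_pow_eq_zero (hP := hP) D.locus hM fun x hx hcl =>
      subsingleton_stalk hM x (D.dim x hcl) ((by exact_mod_cast hn : (N : ℕ∞) ≤ n).trans_lt (hd x hx hcl))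
    exact Nil.of_hom_eq_zero he i

end Main

end Groth.Agent.Sga2lef.H503.RegNil
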