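import Groth.Agent.Sga2.StalkTw
import Groth.Agent.Sga2lef.H503.ProZero
import Groth.Agent.Dcoh.FreeSec

/-!
# Powers of an ideal cut out by a section of an invertible module, and twists

`P` invertible, `σ : Sec P 1` (a section of the inverse of `P`), `𝓘` the ideal sheaf generated by `σ` (`Cuts σ 𝓘`).
`X` Noetherian. For `c ≥ c₀` the module `𝓘^c` has no `σ`-torsion, and `τ : (𝓘^c)(-m) ⟶ 𝓘^(c+m)`, `x ⊗ p ⊗ ⋯ ⊗ p ↦ c(p)^m x`
is an isomorphism, compatible with the inclusions.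
-/

set_option autoImplicit false
universe u
open CategoryTheory CategoryTheory.Limits AlgebraicGeometry Opposite TopologicalSpace

namespace Groth.Agent.Sga2lef.H503.TwistIdeal

open Groth.Agent.Ega4dA.GenSec (res resO IsGen res_self res_res res_smul res_add res_zero app_res eq_of_locally
  exists_glue isInvertible_iff resO_resO resO_mul resO_zero eqO_of_locally)
open Groth.Agent.Sga2.TwIt Groth.Agent.Sga2.NegSec
open Groth.Agent.Sga2lef.H503.ProZero
open Groth.Agent.CohqB.HSeqMod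

variable {X : Scheme.{u}} {P : X.Modules}

theorem resO_pow {U V : X.Opens} (h : V ≤ U) (a : Γ(X, U)) (n : ℕ) : resO X h (a ^ n) = resO X h a ^ n :=
  map_pow (X.presheaf.map (homOfLE h).op).hom a n

/-- Powers of a section. -/
noncomputable def powS (σ : Sec P 1) (m : ℕ) : Sec P m where
  c V p hp := σ.c V p hp ^ m
  res_c V W h p hp := by rw [resO_pow, σ.res_c]
  c_smul V p hp r hr := by rw [σ.c_smul V p hp r hr, pow_one, mul_pow]

theorem powS_c (σ : Sec P 1) (m : ℕ) (V : X.Opens) (p : Γ(P, V)) (hp : IsGen P V p) :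
    (powS σ m).c V p hp = σ.c V p hp ^ m := rfl

/-- The ideal sheaf `𝓘` is generated by the section `σ`. -/
def Cuts (σ : Sec P 1) (𝓘 : X.IdealSheafData) : Prop :=
  ∀ (V : X.affineOpens) (p : Γ(P, V.1)) (hp : IsGen P V.1 p), 𝓘.ideal V = Ideal.span {σ.c V.1 p hp}

theorem Cuts.pow {σ : Sec P 1} {𝓘 : X.IdealSheafData} (h : Cuts σ 𝓘) (m : ℕ) (V : X.affineOpens) (p : Γ(P, V.1))
    (hp : IsGen P V.1 p) : (𝓘 ^ m).ideal V = Ideal.span {σ.c V.1 p hp ^ m} := by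
  rw [Scheme.IdealSheafData.ideal_pow, Pi.pow_apply, h V p hp, Ideal.span_singleton_pow]

section Alg

/-- torsion-freeness passes to localizations -/
theorem torsion_loc {A B : Type*} [CommRing A] [CommRing B] [Algebra A B] (S : Submonoid A) [IsLocalization S B]
    (t : A) (c : ℕ) (h : ∀ a : A, t ^ (c + 1) * a = 0 → t ^ c * a = 0) (b : B)
    (hb : algebraMap A B t ^ (c + 1) * b = 0) : algebraMap A B t ^ c * b = 0 := by
  obtain ⟨a, s, rfl⟩ := IsLocalization.exists_mk'_eq S b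
  rw [← map_pow, ← IsLocalization.mk'_one (M := S) B (t ^ (c + 1)), ← IsLocalization.mk'_mul,
    IsLocalization.mk'_eq_zero_iff] at hb
  obtain ⟨m, hm⟩ := hb
  rw [← map_pow, ← IsLocalization.mk'_one (M := S) B (t ^ c), ← IsLocalization.mk'_mul,
    IsLocalization.mk'_eq_zero_iff]
  refine ⟨m, ?_⟩
  have := h (m * a) (by rw [← hm]; ring)
  rw [← this]; ring

theorem torsion_noeth {A : Type*} [CommRing A] [IsNoetherianRing A] (t : A) :
    ∃ c₀ : ℕ, ∀ c, c₀ ≤ c → ∀ a : A, t ^ (c + 1) * a = 0 → t ^ c * a = 0 := by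
  let f : ℕ →o Submodule A A :=
    { toFun := fun c => LinearMap.ker (LinearMap.mulLeft A (t ^ c))
      monotone' := by
        intro c d hcd a ha
        rw [LinearMap.mem_ker, LinearMap.mulLeft_apply] at ha ⊢
        obtain ⟨e, rfl⟩ := Nat.exists_eq_add_of_le hcd
        rw [pow_add, mul_right_comm, ha, zero_mul] }
  obtain ⟨c₀, hc₀⟩ := monotone_stabilizes_iff_noetherian.mpr (inferInstance : IsNoetherian A A) f
  refine ⟨c₀, fun c hc a ha => ?_⟩
  have h1 : a ∈ f (c + 1) := by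
    change a ∈ LinearMap.ker (LinearMap.mulLeft A (t ^ (c + 1)))
    rw [LinearMap.mem_ker, LinearMap.mulLeft_apply]; exact ha
  rw [← hc₀ (c + 1) (by omega), hc₀ c hc] at h1
  change a ∈ LinearMap.ker (LinearMap.mulLeft A (t ^ c)) at h1
  rwa [LinearMap.mem_ker, LinearMap.mulLeft_apply] at h1

theorem torsion_unit {A : Type*} [CommRing A] {t u : A} (hu : IsUnit u) (c : ℕ)
    (h : ∀ a : A, t ^ (c + 1) * a = 0 → t ^ c * a = 0) (a : A) (ha : (u * t) ^ (c + 1) * a = 0) :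
    (u * t) ^ c * a = 0 := by
  rw [mul_pow, mul_assoc] at ha ⊢
  rw [h a ((hu.pow _).mul_right_eq_zero.mp ha), mul_zero]

end Alg

/-- small affine opens with a generator. -/
theorem exists_affine_gen (hP : PicF.IsInvertible P) (U : X.Opens) (x : X) (hx : x ∈ U) :
    ∃ (V : X.affineOpens) (_ : V.1 ≤ U) (_ : x ∈ V.1) (p : Γ(P, V.1)), IsGen P V.1 p := by
  obtain ⟨W, hW, hxW, p, hp⟩ := exists_gen hP U x hx
  obtain ⟨_, ⟨V, hV, rfl⟩, hxV, hVW⟩ := X.isBasis_affineOpens.exists_subset_of_mem_open hxW W.2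
  exact ⟨⟨V, hV⟩, hVW.trans hW, hxV, res P hVW p, hp.mono hVW⟩

theorem exists_torsion_bound [IsNoetherian X] (hP : PicF.IsInvertible P) (σ : Sec P 1) :
    ∃ c₀ : ℕ, ∀ c, c₀ ≤ c → ∀ (V : X.Opens) (p : Γ(P, V)) (hp : IsGen P V p) (a : Γ(X, V)),
      σ.c V p hp ^ (c + 1) * a = 0 → σ.c V p hp ^ c * a = 0 := by
  classical
  choose U hU hxU p hp using fun x : X => exists_affine_gen hP ⊤ x trivial
  have hN : ∀ x : X, ∃ c₀ : ℕ, ∀ c, c₀ ≤ c → ∀ a : Γ(X, (U x).1),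
      σ.c _ (p x) (hp x) ^ (c + 1) * a = 0 → σ.c _ (p x) (hp x) ^ c * a = 0 := by
    intro x
    have : IsNoetherianRing Γ(X, (U x).1) := IsLocallyNoetherian.component_noetherian (U x)
    exact torsion_noeth _
  choose N hN using hN
  obtain ⟨t, ht⟩ := isCompact_univ.elim_finite_subcover (fun x : X => ((U x).1 : Set X)) (fun x => (U x).1.2)
    (fun x _ => Set.mem_iUnion.mpr ⟨x, hxU x⟩)
  refine ⟨t.sup N, fun c hc V q hq a ha => ?_⟩
  refine eqO_of_locally fun y hy => ?_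
  obtain ⟨x, hxt, hyx⟩ : ∃ x ∈ t, y ∈ (U x).1 := by
    simpa using ht (Set.mem_univ y)
  obtain ⟨f, hfV, hyf⟩ := (U x).2.exists_basicOpen_le (V := V) ⟨y, hy⟩ hyx
  have hfU : X.basicOpen f ≤ (U x).1 := X.basicOpen_le f
  refine ⟨X.basicOpen f, hfV, hyf, ?_⟩
  -- compare the generators
  obtain ⟨r, hr⟩ := ((hp x).mono hfU).exists_unit (hq.mono hfV)
  have hc1 : σ.c _ (res P hfV q) (hq.mono hfV) = r.1 * resO X hfU (σ.c _ (p x) (hp x)) := by
    have h1 := σ.c_smul _ (res P hfU (p x)) ((hp x).mono hfU) r.1 r.isUnit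
    rw [pow_one, ← σ.res_c _ _ hfU (p x) (hp x)] at h1
    rw [← h1]
    exact σ.c_congr hr.symm _ _
  have hloc : IsLocalization.Away f Γ(X, X.basicOpen f) := (U x).2.isLocalization_basicOpen f
  rw [resO_mul, resO_pow, σ.res_c, resO_zero, hc1]
  refine torsion_unit r.isUnit c (fun b hb => ?_) _ ?_
  · exact torsion_loc (B := Γ(X, X.basicOpen f)) (.powers f) (σ.c _ (p x) (hp x)) c
      (hN x c ((Finset.le_sup hxt).trans hc)) b hb
  · have h2 := congrArg (resO X hfV) ha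
    rw [resO_mul, resO_pow, σ.res_c, resO_zero, hc1] at h2
    exact h2

section Ideal

variable (𝓘 : X.IdealSheafData)

/-- sections of the ideal module as functions -/
noncomputable def val (J : X.IdealSheafData) {V : X.Opens} (x : Γ(ClSub.idealMod J, V)) : Γ(X, V) :=
  (ClSub.idealModι J).app V x

theorem val_injective (J : X.IdealSheafData) (V : X.Opens) : Function.Injective (val J (V := V)) :=
  Groth.Agent.CohqA.IdealMod.idealModι_app_injective J V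

theorem val_res (J : X.IdealSheafData) {V W : X.Opens} (h : W ≤ V) (x : Γ(ClSub.idealMod J, V)) :
    val J (res _ h x) = resO X h (val J x) := app_res (ClSub.idealModι J) h x

theorem val_smul (J : X.IdealSheafData) {V : X.Opens} (r : Γ(X, V)) (x : Γ(ClSub.idealMod J, V)) :
    val J (r • x) = r * val J x := (ClSub.idealModι J).app_smul r x

theorem val_zero (J : X.IdealSheafData) {V : X.Opens} : val J (0 : Γ(ClSub.idealMod J, V)) = 0 := map_zero _

theorem val_mem (J : X.IdealSheafData) (V : X.affineOpens) (x : Γ(ClSub.idealMod J, V.1)) : val J x ∈ J.ideal V :=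
  (Groth.Agent.CohqA.IdealMod.exists_idealModι_app_iff J V _).mp ⟨x, rfl⟩

theorem exists_val_eq (J : X.IdealSheafData) (V : X.affineOpens) {a : Γ(X, V.1)} (ha : a ∈ J.ideal V) :
    ∃ x : Γ(ClSub.idealMod J, V.1), val J x = a :=
  (Groth.Agent.CohqA.IdealMod.exists_idealModι_app_iff J V _).mpr ha

variable {𝓘} {σ : Sec P 1} (hσ : Cuts σ 𝓘) (hP : PicF.IsInvertible P)

include hσ in
omit hP in
/-- no `σ`-torsion in `𝓘^c` -/
theorem smul_eq_zero {c : ℕ} (hc : ∀ (V : X.Opens) (p : Γ(P, V)) (hp : IsGen P V p) (a : Γ(X, V)),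
      σ.c V p hp ^ (c + 1) * a = 0 → σ.c V p hp ^ c * a = 0)
    (V : X.Opens) (p : Γ(P, V)) (hp : IsGen P V p) (x : Γ(ClSub.idealMod (𝓘 ^ c), V))
    (hx : σ.c V p hp • x = 0) : x = 0 := by
  refine eq_of_locally _ fun y hy => ?_
  obtain ⟨_, ⟨W, hW, rfl⟩, hyW, hWV⟩ := X.isBasis_affineOpens.exists_subset_of_mem_open hy V.2
  refine ⟨W, hWV, hyW, val_injective _ _ ?_⟩
  have h1 := val_mem (𝓘 ^ c) ⟨W, hW⟩ (res _ hWV x)
  rw [hσ.pow c ⟨W, hW⟩ (res P hWV p) (hp.mono hWV), Ideal.mem_span_singleton'] at h1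
  obtain ⟨a, ha⟩ := h1
  have h2 := congrArg (fun z => val (𝓘 ^ c) (res _ hWV z)) hx
  simp only [res_smul, res_zero, val_smul, val_zero] at h2
  rw [σ.res_c, ← ha] at h2
  rw [res_zero, val_zero, ← ha, mul_comm]
  refine hc W _ (hp.mono hWV) a ?_
  rw [← h2]; ring

include hσ in
omit hP in
theorem pow_smul_eq_zero {c : ℕ} (hc : ∀ (V : X.Opens) (p : Γ(P, V)) (hp : IsGen P V p) (a : Γ(X, V)),
      σ.c V p hp ^ (c + 1) * a = 0 → σ.c V p hp ^ c * a = 0)
    (V : X.Opens) (p : Γ(P, V)) (hp : IsGen P V p) (m : ℕ) (x : Γ(ClSub.idealMod (𝓘 ^ c), V))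
    (hx : σ.c V p hp ^ m • x = 0) : x = 0 := by
  induction m with
  | zero => rwa [pow_zero, one_smul] at hx
  | succ m ih =>
    refine ih (smul_eq_zero hσ hc V p hp _ ?_)
    rwa [← mul_smul, ← pow_succ']

include hσ in
theorem mono_hom {c : ℕ} (hc : ∀ (V : X.Opens) (p : Γ(P, V)) (hp : IsGen P V p) (a : Γ(X, V)),
      σ.c V p hp ^ (c + 1) * a = 0 → σ.c V p hp ^ c * a = 0) (m : ℕ) :
    Mono ((powS σ m).hom hP (ClSub.idealMod (𝓘 ^ c))) := by
  refine mono_of_injective _ fun U => ?_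
  rw [injective_iff_map_eq_zero]
  intro z hz
  refine eq_of_locally _ fun x hx => ?_
  obtain ⟨V, hV, hxV, p, hp⟩ := exists_gen hP U x hx
  refine ⟨V, hV, hxV, ?_⟩
  obtain ⟨y, hy⟩ := (ev_bijective _ hp m).2 (res _ hV z)
  have h1 : ((powS σ m).hom hP (ClSub.idealMod (𝓘 ^ c))).app V (res _ hV z) = 0 := by
    rw [app_res, hz, res_zero]
  rw [← hy, Sec.hom_ev _ hP _ hp, powS_c] at h1
  rw [← hy, pow_smul_eq_zero hσ hc V p hp m y h1, res_zero]
  have h2 := ev_add (ClSub.idealMod (𝓘 ^ c)) p m 0 0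
  rw [add_zero] at h2
  simpa using h2

include hσ in
theorem hom_toSubscheme (c m : ℕ) :
    ((powS σ m).hom hP (ClSub.idealMod (𝓘 ^ c)) ≫ ClSub.idealModι (𝓘 ^ c)) ≫ ClSub.toSubscheme (𝓘 ^ (c + m)) = 0 := by
  refine It_hom_ext hP fun V p hp x => ?_
  change (ClSub.toSubscheme (𝓘 ^ (c + m))).app V ((ClSub.idealModι (𝓘 ^ c)).app V
    (((powS σ m).hom hP (ClSub.idealMod (𝓘 ^ c))).app V (ev _ p m x))) = 0
  rw [Sec.hom_ev _ hP _ hp, powS_c]
  refine eq_of_locally _ fun y hy => ?_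
  obtain ⟨_, ⟨W, hW, rfl⟩, hyW, hWV⟩ := X.isBasis_affineOpens.exists_subset_of_mem_open hy V.2
  refine ⟨W, hWV, hyW, ?_⟩
  rw [← app_res, ← app_res, res_zero]
  refine (Groth.Agent.CohqA.IdealMod.toSubscheme_app_eq_zero_iff (𝓘 ^ (c + m)) ⟨W, hW⟩ _).mpr ?_
  have h1 := val_mem (𝓘 ^ c) ⟨W, hW⟩ (res _ hWV x)
  rw [hσ.pow c ⟨W, hW⟩ (res P hWV p) (hp.mono hWV), Ideal.mem_span_singleton'] at h1
  obtain ⟨a, ha⟩ := h1
  change val (𝓘 ^ c) (res _ hWV (σ.c V p hp ^ m • x)) ∈ _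
  rw [res_smul, val_smul, resO_pow, σ.res_c, ← ha, hσ.pow (c + m) ⟨W, hW⟩ (res P hWV p) (hp.mono hWV),
    Ideal.mem_span_singleton']
  exact ⟨a, by rw [pow_add]; ring⟩

/-- `(𝓘^c)(-m) ⟶ 𝓘^(c+m)`. -/
noncomputable def tau (c m : ℕ) : (It P m).obj (ClSub.idealMod (𝓘 ^ c)) ⟶ ClSub.idealMod (𝓘 ^ (c + m)) :=
  kernel.lift _ ((powS σ m).hom hP (ClSub.idealMod (𝓘 ^ c)) ≫ ClSub.idealModι (𝓘 ^ c)) (hom_toSubscheme hσ hP c m)

theorem tau_ι (c m : ℕ) : tau hσ hP c m ≫ ClSub.idealModι (𝓘 ^ (c + m)) =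
    (powS σ m).hom hP (ClSub.idealMod (𝓘 ^ c)) ≫ ClSub.idealModι (𝓘 ^ c) := kernel.lift_ι _ _ _

theorem tau_incl (c m : ℕ) : tau hσ hP c m ≫ incl (pow_le 𝓘 c m) = (powS σ m).hom hP (ClSub.idealMod (𝓘 ^ c)) := by
  have := Groth.Agent.CohqA.IdealMod.mono_idealModι (𝓘 ^ c)
  rw [← cancel_mono (ClSub.idealModι (𝓘 ^ c)), Category.assoc, incl_ι, tau_ι]

theorem epi_tau (c m : ℕ) : Epi (tau hσ hP c m) := by
  refine Groth.Agent.PerfB.ModExact.epi_of_locally_surjective _ fun U y x hx => ?_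
  obtain ⟨V, hVU, hxV, p, hp⟩ := exists_affine_gen hP U x hx
  have h1 := val_mem (𝓘 ^ (c + m)) V (res _ hVU y)
  rw [hσ.pow (c + m) V p hp, Ideal.mem_span_singleton'] at h1
  obtain ⟨a, ha⟩ := h1
  obtain ⟨z, hz⟩ := exists_val_eq (𝓘 ^ c) V (a := a * σ.c V.1 p hp ^ c) (by
    rw [hσ.pow c V p hp, Ideal.mem_span_singleton']; exact ⟨a, rfl⟩)
  refine ⟨V.1, hVU, hxV, ev _ p m z, val_injective _ _ ?_⟩
  have h2 : val (𝓘 ^ (c + m)) ((tau hσ hP c m).app V.1 (ev _ p m z)) =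
      val (𝓘 ^ c) (((powS σ m).hom hP (ClSub.idealMod (𝓘 ^ c))).app V.1 (ev _ p m z)) := by
    change (tau hσ hP c m ≫ ClSub.idealModι (𝓘 ^ (c + m))).app V.1 _ = _
    rw [tau_ι]
    rfl
  rw [h2, Sec.hom_ev _ hP _ hp, powS_c, val_smul, hz]
  refine Eq.trans ?_ ha
  rw [pow_add]; ring

theorem isIso_tau {c : ℕ} (hc : ∀ (V : X.Opens) (p : Γ(P, V)) (hp : IsGen P V p) (a : Γ(X, V)),
      σ.c V p hp ^ (c + 1) * a = 0 → σ.c V p hp ^ c * a = 0) (m : ℕ) : IsIso (tau hσ hP c m) := by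
  have := Groth.Agent.CohqA.IdealMod.mono_idealModι (𝓘 ^ c)
  have := mono_hom hσ hP hc m
  have h1 : Mono (tau hσ hP c m ≫ ClSub.idealModι (𝓘 ^ (c + m))) := by
    rw [tau_ι]; infer_instance
  have := mono_of_mono (tau hσ hP c m) (ClSub.idealModι (𝓘 ^ (c + m)))
  have := epi_tau hσ hP c m
  exact isIso_of_mono_of_epi _

end Ideal

/-- Transfer of the pro-vanishing of `H^i((𝓘^c)(-m))` to `H^i(𝓘^(c+m))`. -/
theorem proZero_of_twist [IsNoetherian X] (hP : PicF.IsInvertible P) {σ : Sec P 1} {𝓘 : X.IdealSheafData}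
    (hσ : Cuts σ 𝓘) (n : ℕ)
    (hkey : ∀ c : ℕ, ∃ b m₀ : ℕ, ∀ m, m₀ ≤ m → ∀ i ≤ n,
      ∀ x : Coh.HH X ((It P b).obj ((It P m).obj (ClSub.idealMod (𝓘 ^ c)))) i,
        hmap ((powS σ b).hom hP ((It P m).obj (ClSub.idealMod (𝓘 ^ c)))) i x = 0) :
    ∃ M b : ℕ, ∀ m, M ≤ m → ∀ i ≤ n, ∀ x : Coh.HH X (ClSub.idealMod (𝓘 ^ (m + b))) i,
      hmap (incl (pow_le 𝓘 m b)) i x = 0 := by
  obtain ⟨c, hc⟩ := exists_torsion_bound hP σ
  obtain ⟨b, m₀, hb⟩ := hkey c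
  refine ⟨c + m₀, b, fun m hm i hi x => ?_⟩
  obtain ⟨d, rfl⟩ := Nat.exists_eq_add_of_le (Nat.le_of_add_right_le hm)
  have h1 := isIso_tau hσ hP (hc c le_rfl) d
  have h2 := isIso_tau hσ hP (hc (c + d) (by omega)) b
  let φ : (It P b).obj ((It P d).obj (ClSub.idealMod (𝓘 ^ c))) ⟶ ClSub.idealMod (𝓘 ^ (c + d + b)) :=
    (It P b).map (tau hσ hP c d) ≫ tau hσ hP (c + d) b
  have h3 : IsIso φ := inferInstance
  have h4 : φ ≫ incl (pow_le 𝓘 (c + d) b) =
      (powS σ b).hom hP ((It P d).obj (ClSub.idealMod (𝓘 ^ c))) ≫ tau hσ hP c d := by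
    rw [Category.assoc, tau_incl, Sec.hom_naturality]
  have h5 : x = hmap φ i (hmap (inv φ) i x) := by
    rw [← hmap_comp_apply, IsIso.inv_hom_id]
    exact (hmap_id_apply i x).symm
  rw [h5, ← hmap_comp_apply, h4, hmap_comp_apply, hb d (by omega) i hi, map_zero]

section Stalk

variable {𝓘 : X.IdealSheafData}

/-- Off the support of `𝓘` the stalk of `𝓘^c` is the local ring. -/
theorem nonempty_stalk (𝓘 : X.IdealSheafData) (c : ℕ) (x : X) (hx : x ∉ (𝓘.support : Set X)) :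
    Nonempty ((ClSub.idealMod (𝓘 ^ c)).presheaf.stalk x ≃ₗ[X.presheaf.stalk x] X.presheaf.stalk x) := by
  have hsupp : IsOpen ((𝓘.support : Set X)ᶜ) := 𝓘.support.2.isOpen_compl
  obtain ⟨_, ⟨V, hV, rfl⟩, hxV, hVs⟩ := X.isBasis_affineOpens.exists_subset_of_mem_open (show x ∈ (𝓘.support : Set X)ᶜ
    from hx) hsupp
  -- the ideal is the unit ideal on every affine open contained in `V`
  have hI : ∀ W : X.affineOpens, W.1 ≤ V → 𝓘.ideal W = ⊤ := by
    intro W hW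
    by_contra hne
    obtain ⟨p, hp, hle⟩ := Ideal.exists_le_maximal _ hne
    let q : PrimeSpectrum Γ(X, W.1) := ⟨p, hp.isPrime⟩
    have hqW : W.2.fromSpec q ∈ W.1 := by
      have : W.2.fromSpec q ∈ W.2.fromSpec.opensRange := ⟨q, rfl⟩
      rwa [W.2.opensRange_fromSpec] at this
    have h1 : W.2.fromSpec q ∈ (𝓘.support : Set X) := by
      refine (Scheme.IdealSheafData.mem_support_iff_of_mem (U := W) hqW).mpr ?_
      rw [Scheme.mem_zeroLocus_iff]
      intro f hf hqf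
      have : q ∈ W.2.fromSpec ⁻¹ᵁ X.basicOpen f := hqf
      rw [W.2.fromSpec_preimage_basicOpen] at this
      exact this (hle hf)
    exact hVs (hW hqW) h1
  have hIc : ∀ W : X.affineOpens, W.1 ≤ V → (𝓘 ^ c).ideal W = ⊤ := by
    intro W hW
    rw [Scheme.IdealSheafData.ideal_pow, Pi.pow_apply, hI W hW, Ideal.top_pow]
  obtain ⟨e, -⟩ := Groth.Agent.Sga2.StalkTw.exists_stalkEquiv (ClSub.idealMod (𝓘 ^ c)) (Coh.structureModule X)
    (V := V) (fun W _ a => (ClSub.idealModι (𝓘 ^ c)).app W a) (fun W h a a' => map_add _ a a')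
    (fun W h r a => (ClSub.idealModι (𝓘 ^ c)).app_smul r a)
    (fun W W' h h' a => (app_res (ClSub.idealModι (𝓘 ^ c)) h' a).symm) (fun W hW => by
      refine ⟨Groth.Agent.CohqA.IdealMod.idealModι_app_injective _ W, fun b => ?_⟩
      refine Groth.Agent.Smoothlim.ModKer.exists_of_app_eq_zero (ClSub.toSubscheme (𝓘 ^ c)) W b ?_
      refine eq_of_locally _ fun y hy => ?_
      obtain ⟨_, ⟨T, hT, rfl⟩, hyT, hTW⟩ := X.isBasis_affineOpens.exists_subset_of_mem_open hy W.2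
      refine ⟨T, hTW, hyT, ?_⟩
      rw [← app_res, res_zero]
      refine (Groth.Agent.CohqA.IdealMod.toSubscheme_app_eq_zero_iff (𝓘 ^ c) ⟨T, hT⟩ _).mpr ?_
      rw [hIc ⟨T, hT⟩ (hTW.trans hW)]
      trivial) (x := x) hxV
  exact ⟨e.trans (Groth.Agent.Dcoh.FreeSec.stalkUnit x).symm⟩

theorem depth_idealMod_pow (𝓘 : X.IdealSheafData) (c : ℕ) (x : X) (hx : x ∉ (𝓘.support : Set X)) :
    LocCoh.depth (X.presheaf.stalk x) ((ClSub.idealMod (𝓘 ^ c)).presheaf.stalk x) =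
      LocCoh.depth (X.presheaf.stalk x) (X.presheaf.stalk x) := by
  obtain ⟨e⟩ := nonempty_stalk 𝓘 c x hx
  exact Groth.Agent.Localalg.Depth.idealDepth_congr_equiv _ e

end Stalk

end Groth.Agent.Sga2lef.H503.TwistIdeal
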